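import Groth.Agent.FieldCd.Acyclic
import Groth.Agent.VarDim.Top
import Groth.Agent.TsenLib.Norm
import Groth.Agent.S0210
import Groth.Prelude.Def_Curves

/-! the multiplicative group at the generic point of a curve -/

universe u

open CategoryTheory CategoryTheory.Limits AlgebraicGeometry Opposite

namespace Groth.Agent.FieldCd

set_option autoImplicit false
set_option maxHeartbeats 1000000
set_option synthInstance.maxHeartbeats 400000
set_option backward.isDefEq.respectTransparency false
set_option backward.isDefEq.respectTransparency.types false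

/-- Tsen: the function field of an integral curve is C₁ -/
theorem isCi_one_functionField (k : Type u) [Field k] [IsAlgClosed k] (C : Scheme.{u})
    (f : C ⟶ Spec (CommRingCat.of k)) [LocallyOfFiniteType f] [QuasiCompact f] [IsIntegral C]
    (hdim : topologicalKrullDim ↥C = 1) : Curves.IsCi (↑C.functionField) 1 := by
  have hd : VarDim.deg f (genericPoint C) = 1 := by
    have h := VarDim.topologicalKrullDim_eq_deg_genericPoint f
    rw [hdim] at h
    exact_mod_cast h.symm
  letI : Algebra k (C.residueField (genericPoint C)) := (VarDim.resHom f (genericPoint C)).toAlgebra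
  have htr : Algebra.trdeg k (C.residueField (genericPoint C)) = ((1 : ℕ) : Cardinal) := by
    rw [← hd]
    exact (VarDim.deg_eq_tdeg f (genericPoint C)).symm
  have hbij : Function.Bijective (C.residue (genericPoint C)).hom :=
    ⟨RingHom.injective (C.residue (genericPoint C)).hom (R := C.functionField),
      C.residue_surjective _⟩
  exact TsenLib.isCi_of_ringEquiv (RingEquiv.ofBijective (C.residue (genericPoint C)).hom hbij).symm
      (TsenLib.tsen_lang htr)

/-- the Brauer groups of the finite extensions of the function field of a curve vanish -/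
theorem brauer_functionField (k : Type u) [Field k] [IsAlgClosed k] (C : Scheme.{u})
    (f : C ⟶ Spec (CommRingCat.of k)) [LocallyOfFiniteType f] [QuasiCompact f] [IsIntegral C]
    (hdim : topologicalKrullDim ↥C = 1)
    (K' : Type u) [Field K'] [Algebra ↑C.functionField K'] [FiniteDimensional ↑C.functionField K']
    (D : Type u) [DivisionRing D] [Algebra K' D] [Algebra.IsCentral K' D] [FiniteDimensional K' D] :
    Module.finrank K' D = 1 :=
  TsenLib.finrank_eq_one_of_isCr_one (TsenLib.isCr_one_of_isCi
    (Groth.Agent.S0210.result ↑C.functionField K' 1 (isCi_one_functionField k C f hdim)))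

/-- higher direct images of the multiplicative group from the generic point vanish -/
theorem isZero_Rpush_Gm_generic (k : Type u) [Field k] [IsAlgClosed k] (X : Scheme.{u})
    (f : X ⟶ Spec (CommRingCat.of k)) [LocallyOfFiniteType f] [QuasiCompact f] [IsIntegral X]
    (hdim : topologicalKrullDim X = 1)
    [EtCoh.BCCont (X.fromSpecStalk (genericPoint X))] (q : ℕ) (hq : 1 ≤ q) :
    IsZero ((EtCoh.Rpush (X.fromSpecStalk (genericPoint X)) q).obj
      (EtCoh.Gm (Spec (X.presheaf.stalk (genericPoint X))))) :=
  @isZero_Rpush_of_isPtAcyclic (↑X.functionField) _ _ (X.fromSpecStalk (genericPoint X)) ‹_› _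
    (isPtAcyclic_Gm (k := ↑X.functionField) fun K' _ _ _ D _ _ _ _ => brauer_functionField k X f hdim K' D) q hq

theorem subsingleton_H_push_Gm_generic (k : Type u) [Field k] [IsAlgClosed k] (X : Scheme.{u})
    (f : X ⟶ Spec (CommRingCat.of k)) [LocallyOfFiniteType f] [QuasiCompact f] [IsIntegral X]
    (hdim : topologicalKrullDim X = 1)
    [EtCoh.BCCont (X.fromSpecStalk (genericPoint X))] (p : ℕ) (hp : 1 ≤ p) :
    Subsingleton (EtCoh.H X ((EtCoh.push (X.fromSpecStalk (genericPoint X))).obj
      (EtCoh.Gm (Spec (X.presheaf.stalk (genericPoint X))))) p) := by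
  haveI := EtContLib.pfl (X.fromSpecStalk (genericPoint X))
  have h := Groth.Agent.S14451.result (X.fromSpecStalk (genericPoint X)) _
    (fun q hq => isZero_Rpush_Gm_generic k X f hdim q hq) p
  haveI : Subsingleton (EtCoh.H (Spec (X.presheaf.stalk (genericPoint X)))
      (EtCoh.Gm (Spec (X.presheaf.stalk (genericPoint X)))) p) :=
    subsingleton_H_Gm_of_brauer (K := ↑X.functionField)
      (fun K' _ _ _ D _ _ _ _ => brauer_functionField k X f hdim K' D) p hp
  exact h.1.subsingleton

end Groth.Agent.FieldCd
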