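import Groth.Agent.FieldCd.ProP

/-! reduction of `p`-cohomological dimension to fields with pro-`p` Galois group -/

universe u

open CategoryTheory CategoryTheory.Limits AlgebraicGeometry Opposite CategoryTheory.Abelian

namespace Groth.Agent.FieldCd

set_option autoImplicit false
set_option maxHeartbeats 1000000
set_option synthInstance.maxHeartbeats 400000
set_option backward.isDefEq.respectTransparency false
set_option backward.isDefEq.respectTransparency.types false
set_option linter.style.haveILetI false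

attribute [local instance] EtContLib.pfl

/-- a class killed by an algebraic extension is killed by a finitely generated one -/
theorem exists_finset_kill {k : Type u} [Field k] (K : Type u) [Field K] [Algebra k K]
    (F : EtCoh.Ab (Spec (CommRingCat.of k))) (q : ℕ) (x : EtCoh.H (Spec (CommRingCat.of k)) F q)
    (hx : EtCore.Hpull (Spec.map (CommRingCat.ofHom (algebraMap k K))) F q x = 0) :
    ∃ s : Finset K,
      EtCore.Hpull (Spec.map (CommRingCat.ofHom (algebraMap k (Pi1Ext.SepLim.sub k K s)))) F q x = 0 := by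
  classical
  let c := Pi1Ext.SepLim.specCone k K
  let j₀ : Finset K := ∅
  let b := Pi1Ext.SepLim.str k K (op j₀)
  let F₀ := (EtCoh.pull b).obj F
  let m := (Pi1Ext.SepLim.specs k K).map (homOfLE (le_refl j₀)).op
  have haff : ∀ ⦃a b : (Finset K)ᵒᵖ⦄ (h : a ⟶ b), IsAffineHom ((Pi1Ext.SepLim.specs k K).map h) := fun a b h => by
    show IsAffineHom (Spec.map _)
    infer_instance
  have hmb : m ≫ b = b := Pi1Ext.SepLim.str_map k K _
  have hK : EtCore.Hpull (c.π.app (op j₀)) ((EtCoh.pull m).obj F₀) q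
      (EtCore.Hpull m F₀ q (EtCore.Hpull b F q x)) = 0 := by
    refine (GalTorLib.hpull_comp_eq_zero_iff (c.π.app (op j₀)) m (c.π.app (op j₀) ≫ m) rfl F₀ q _).2 ?_
    refine (GalTorLib.hpull_comp_eq_zero_iff (c.π.app (op j₀) ≫ m) b
      (Spec.map (CommRingCat.ofHom (algebraMap k K))) ?_ F q x).2 hx
    rw [Category.assoc, hmb]
    exact Pi1Ext.SepLim.str_cone k K _
  obtain ⟨s, hs, hξ⟩ := (Groth.Agent.S0646.result (Pi1Ext.SepLim.specs k K) haff
    (fun a => inferInstanceAs (CompactSpace ↥(Spec _))) (fun a => inferInstanceAs (QuasiSeparatedSpace ↥(Spec _)))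
    c (Pi1Ext.SepLim.isLimitSpec k K) j₀ F₀ q).2 j₀ le_rfl
    (EtCore.Hpull m F₀ q (EtCore.Hpull b F q x)) (by
      show (EtCoh.HF _ q).map _ (EtCore.Hpull (c.π.app (op j₀)) ((EtCoh.pull m).obj F₀) q _) = 0
      rw [hK]
      exact map_zero _)
  let a := (Pi1Ext.SepLim.specs k K).map (homOfLE hs).op
  have hab : a ≫ b = Pi1Ext.SepLim.str k K (op s) := Pi1Ext.SepLim.str_map k K _
  have h1 := (GalTorLib.hpull_comp_eq_zero_iff a m (a ≫ m) rfl F₀ q _).1 hξ
  exact ⟨s, (GalTorLib.hpull_comp_eq_zero_iff (a ≫ m) b _ (by rw [Category.assoc, hmb, hab]) F q x).1 h1⟩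

/-- transfer of vanishing along a map of extensions -/
theorem hpull_eq_zero_of_algHom {k A B : Type u} [Field k] [Field A] [Field B] [Algebra k A] [Algebra k B]
    (σ : A →ₐ[k] B) (F : EtCoh.Ab (Spec (CommRingCat.of k))) (q : ℕ)
    (x : EtCoh.H (Spec (CommRingCat.of k)) F q)
    (hx : EtCore.Hpull (Spec.map (CommRingCat.ofHom (algebraMap k A))) F q x = 0) :
    EtCore.Hpull (Spec.map (CommRingCat.ofHom (algebraMap k B))) F q x = 0 := by
  refine (GalTorLib.hpull_comp_eq_zero_iff (Spec.map (CommRingCat.ofHom σ.toRingHom))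
    (Spec.map (CommRingCat.ofHom (algebraMap k A))) _ ?_ F q x).1 (by rw [hx, map_zero])
  rw [← Spec.map_comp, ← CommRingCat.ofHom_comp]
  exact congrArg (fun g => Spec.map (CommRingCat.ofHom g)) σ.comp_algebraMap

theorem proP_of_dvd {E : Type u} [Field E] {p : ℕ} (hp : p.Prime)
    (h : ∀ (L : Type u) [Field L] [Algebra E L] [FiniteDimensional E L] [Algebra.IsSeparable E L],
      Module.finrank E L ≠ 1 → p ∣ Module.finrank E L) : ProP E p := by
  intro K _ _ hK hK'
  haveI := Fact.mk hp
  let Ks := SeparableClosure E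
  let M : IntermediateField E Ks := IntermediateField.normalClosure E K Ks
  haveI : FiniteDimensional E M := normalClosure.is_finiteDimensional E K Ks
  haveI : IsGalois E M := ⟨⟩
  let τ : K →ₐ[E] Ks := IsSepClosed.lift
  let σ : K →ₐ[E] M := τ.codRestrict M.toSubalgebra fun a => τ.fieldRange_le_normalClosure ⟨a, rfl⟩
  obtain ⟨P⟩ : Nonempty (Sylow p Gal(M/E)) := inferInstance
  let L : IntermediateField E M := IntermediateField.fixedField (P : Subgroup Gal(M/E))
  have h1 : Module.finrank L M = Nat.card (P : Subgroup Gal(M/E)) := IntermediateField.finrank_fixedField_eq_card _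
  have h2 : Module.finrank E L * Module.finrank L M = Module.finrank E M := Module.finrank_mul_finrank E L M
  have h3 : Module.finrank E L = (P : Subgroup Gal(M/E)).index := by
    refine Nat.eq_of_mul_eq_mul_right (Nat.card_pos (α := (P : Subgroup Gal(M/E)))) ?_
    rw [← h1, h2, ← IsGalois.card_aut_eq_finrank E M, ← (P : Subgroup Gal(M/E)).card_mul_index, h1, mul_comm]
  have hL : Module.finrank E L = 1 := by
    by_contra hne
    exact P.not_dvd_index (h3 ▸ h L hne)
  obtain ⟨a, ha⟩ := IsPGroup.iff_card.1 P.isPGroup'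
  rw [hL, one_mul, h1, ha] at h2
  letI : Algebra K M := σ.toRingHom.toAlgebra
  haveI : IsScalarTower E K M := IsScalarTower.of_algebraMap_eq fun c => (σ.commutes c).symm
  obtain ⟨i, -, hi⟩ := (Nat.dvd_prime_pow hp).1
    (Dvd.intro _ ((Module.finrank_mul_finrank E K M).trans h2.symm) : Module.finrank E K ∣ p ^ a)
  exact ⟨i, hi⟩

/-- `cd_p k ≤ n` follows from the same bound for the separable extensions with pro-`p` Galois group -/
theorem cdLE_of_proP {k : Type u} [Field k] {p n : ℕ} [Fact p.Prime]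
    (h : ∀ E : IntermediateField k (SeparableClosure k), ProP E p → GalTorLib.CdLE (Spec (CommRingCat.of E)) p n) :
    GalTorLib.CdLE (Spec (CommRingCat.of k)) p n := by
  classical
  have hp : p.Prime := Fact.out
  intro F hF q hq x ⟨m, hm⟩
  by_contra hx
  let Ks := SeparableClosure k
  let R : IntermediateField k Ks → Prop := fun E =>
    EtCore.Hpull (Spec.map (CommRingCat.ofHom (algebraMap k E))) F q x ≠ 0
  have hbot : R ⊥ := fun h0 => hx (by
    haveI : FiniteDimensional k (⊥ : IntermediateField k Ks) := inferInstance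
    have h1 := GalTorLib.finrank_nsmul_eq_zero k (⊥ : IntermediateField k Ks) F q x h0
    rwa [IntermediateField.finrank_bot, one_smul] at h1)
  obtain ⟨E, -, hE⟩ := zorn_le_nonempty₀ {E | R E} (fun C hC hCc E₀ hE₀ => by
    refine ⟨sSup C, fun h0 => ?_, fun E hE => le_sSup hE⟩
    obtain ⟨s, hs⟩ := exists_finset_kill (sSup C : IntermediateField k Ks) F q x h0
    haveI : Nonempty C := ⟨⟨E₀, hE₀⟩⟩
    have hdir : Directed (· ≤ ·) (fun E : C => (E : IntermediateField k Ks)) :=
      hCc.directedOn.directed_val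
    have hcoe : ((sSup C : IntermediateField k Ks) : Set Ks) = ⋃ E : C, ((E : IntermediateField k Ks) : Set Ks) := by
      rw [sSup_eq_iSup', IntermediateField.coe_iSup_of_directed hdir]
    choose g hg using fun a : s => Set.mem_iUnion.1 (hcoe.le a.1.2)
    obtain ⟨E, hE⟩ := hdir.finset_le (s.attach.image g)
    have hsub : (Pi1Ext.SepLim.sub k (sSup C : IntermediateField k Ks) s).map (sSup C).val ≤ (E : IntermediateField k Ks) := by
      rw [IntermediateField.adjoin_map, IntermediateField.adjoin_le_iff]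
      rintro _ ⟨a, ha, rfl⟩
      exact hE (g ⟨a, ha⟩) (Finset.mem_image.2 ⟨⟨a, ha⟩, Finset.mem_attach _ _, rfl⟩) (hg ⟨a, ha⟩)
    exact hC E.2 (hpull_eq_zero_of_algHom
      ((IntermediateField.inclusion hsub).comp
        ((Pi1Ext.SepLim.sub k (sSup C : IntermediateField k Ks) s).equivMap (sSup C).val).toAlgHom) F q x hs))
    ⊥ hbot
  have hER : R E := hE.prop
  let f := Spec.map (CommRingCat.ofHom (algebraMap k E))
  let xE := EtCore.Hpull f F q x
  have hmE : p ^ m • xE = 0 := by rw [← map_nsmul, hm, map_zero]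
  have hpro : ProP E p := proP_of_dvd hp fun L _ _ _ _ hL => by
    let σ : L →ₐ[E] Ks := IsSepClosed.lift
    let E' : IntermediateField k Ks := σ.fieldRange.restrictScalars k
    have hle : E ≤ E' := fun a ha => ⟨algebraMap E L ⟨a, ha⟩, σ.commutes ⟨a, ha⟩⟩
    have hne : ¬ E' ≤ E := fun hle' => hL (by
      refine (LinearEquiv.finrank_eq (LinearEquiv.ofBijective (Algebra.linearMap E L) ⟨?_, fun l => ?_⟩)).symm.trans
        (Module.finrank_self E)
      · exact (algebraMap E L).injective
      · exact ⟨⟨σ l, hle' ⟨l, rfl⟩⟩, σ.injective (σ.commutes _)⟩)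
    have h0 : EtCore.Hpull (Spec.map (CommRingCat.ofHom (algebraMap k E'))) F q x = 0 := by
      by_contra hc
      exact hne (hE.le_of_ge hc hle)
    letI : Algebra k L := ((algebraMap E L).comp (algebraMap k E)).toAlgebra
    haveI : IsScalarTower k E L := IsScalarTower.of_algebraMap_eq fun _ => rfl
    let e : L ≃ₐ[k] E' := (AlgEquiv.ofInjectiveField σ).restrictScalars k
    have hL0 := hpull_eq_zero_of_algHom e.symm.toAlgHom F q x h0
    have hEL : EtCore.Hpull (Spec.map (CommRingCat.ofHom (algebraMap E L))) ((EtCoh.pull f).obj F) q xE = 0 :=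
      (GalTorLib.hpull_comp_eq_zero_iff _ f (Spec.map (CommRingCat.ofHom (algebraMap k L))) (by
        rw [← Spec.map_comp, ← CommRingCat.ofHom_comp]
        rfl) F q x).2 hL0
    have h1 := addOrderOf_dvd_of_nsmul_eq_zero (GalTorLib.finrank_nsmul_eq_zero E L _ q xE hEL)
    obtain ⟨i, -, hi⟩ := (Nat.dvd_prime_pow hp).1 (addOrderOf_dvd_of_nsmul_eq_zero hmE)
    rcases i with _ | i
    · exact absurd (AddMonoid.addOrderOf_eq_one_iff.1 (hi.trans (pow_zero p))) hER
    · exact ((dvd_pow_self p i.succ_ne_zero).trans hi.symm.dvd).trans h1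
  exact hER (h E hpro _ (GalTorLib.isTorsion_pull f F hF) q hq xE ⟨m, hmE⟩)

end Groth.Agent.FieldCd
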