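import Groth.Agent.FieldCd.Endgame
import Groth.Agent.S7733

/-! fields all of whose finite extensions have trivial Brauer group -/

universe u

open CategoryTheory CategoryTheory.Limits AlgebraicGeometry Opposite CategoryTheory.Abelian

namespace Groth.Agent.FieldCd

set_option autoImplicit false
set_option maxHeartbeats 1000000
set_option synthInstance.maxHeartbeats 400000
set_option backward.isDefEq.respectTransparency false
set_option backward.isDefEq.respectTransparency.types false
set_option linter.style.haveILetI false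

variable {K : Type u} [Field K]
  (hBr : ∀ (K' : Type u) [Field K'] [Algebra K K'] [FiniteDimensional K K']
    (D : Type u) [DivisionRing D] [Algebra K' D] [Algebra.IsCentral K' D] [FiniteDimensional K' D],
    Module.finrank K' D = 1)

include hBr

theorem cdLE_one_of_brauer (p : ℕ) [Fact p.Prime] : GalTorLib.CdLE (Spec (CommRingCat.of K)) p 1 := by
  by_cases hp : (p : K) = 0
  · haveI : CharP K p := CharP.charP_iff_prime_eq_zero Fact.out |>.2 hp
    intro F hF q hq x hx
    exact Groth.Agent.S7733.result K p F hF q (by omega) x hx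
  · refine cdLE_one_of_normSurj hp fun K₁ _ _ _ L _ _ _ _ hd a ha => ?_
    exact norm_surjective_of_algebraic (k := K) (fun K₀ _ _ _ L₀ _ _ _ _ hd₀ a₀ ha₀ =>
      norm_surjective_of_brauer (hBr K₀) L₀ hd₀ a₀ ha₀) K₁ L hd a ha

theorem subsingleton_H_Gm_of_brauer (q : ℕ) (hq : 1 ≤ q) :
    Subsingleton (EtCoh.H (Spec (CommRingCat.of K)) (EtCoh.Gm (Spec (CommRingCat.of K))) q) := by
  rcases eq_or_lt_of_le hq with h | h
  · subst h
    exact subsingleton_H1_Gm K
  refine subsingleton_of_forall_eq 0 fun x => ?_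
  have hfin : IsOfFinAddOrder x := GalTorLib.isOfFinAddOrder K _ q (by omega) x
  by_contra hne
  obtain ⟨p, hp, hdvd⟩ := Nat.exists_prime_and_dvd
    (fun e => hne (AddMonoid.addOrderOf_eq_one_iff.1 e) : addOrderOf x ≠ 1)
  haveI := Fact.mk hp
  obtain ⟨c, hc⟩ := hdvd
  have hpc : ∃ m : ℕ, p ^ m • (c • x) = 0 := ⟨1, by rw [pow_one, ← mul_nsmul', ← hc, addOrderOf_nsmul_eq_zero]⟩
  have h0 : c • x = 0 := by
    rcases eq_or_lt_of_le (show 2 ≤ q by omega) with h2 | h2
    · subst h2
      refine torsion_H2_eq_zero (fun K₀ _ _ _ _ L₀ _ _ _ _ hd₀ a₀ ha₀ => ?_) _ hpc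
      exact norm_surjective_of_brauer (hBr K₀) L₀ hd₀ a₀ ha₀
    · exact GalTorLib.torsion_succ p 1 hp (cdLE_one_of_brauer hBr p) _ q (by omega) _ hpc
  have hpos := hfin.addOrderOf_pos
  have hle := Nat.le_of_dvd (Nat.pos_of_ne_zero fun e => by rw [hc, e, mul_zero] at hpos; exact lt_irrefl 0 hpos)
    (addOrderOf_dvd_of_nsmul_eq_zero h0)
  rw [hc] at hle hpos
  have h2 : 2 ≤ p := hp.two_le
  nlinarith

end Groth.Agent.FieldCd
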