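import Groth.Agent.FieldCd.Coprod
import Groth.Agent.FieldCd.CurveGeneric
import Groth.Agent.S0073
import Groth.Agent.GalTorLib.Basic
import Mathlib.AlgebraicGeometry.AlgClosed.Basic

/-! skyscraper sheaves at closed points -/

universe u

open CategoryTheory CategoryTheory.Limits AlgebraicGeometry Opposite

namespace Groth.Agent.FieldCd

set_option autoImplicit false
set_option maxHeartbeats 1000000
set_option synthInstance.maxHeartbeats 400000
set_option backward.isDefEq.respectTransparency false
set_option backward.isDefEq.respectTransparency.types false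

theorem subsingleton_H_of_isAlgClosed (K : Type u) [Field K] [IsAlgClosed K] (F : EtCoh.Ab (Spec (CommRingCat.of K)))
    (p : ℕ) (hp : 1 ≤ p) : Subsingleton (EtCoh.H (Spec (CommRingCat.of K)) F p) := by
  haveI : IsAlgClosed (IsLocalRing.ResidueField K) := IsAlgClosed.of_ringEquiv K _
    (RingEquiv.ofBijective (IsLocalRing.residue K) ⟨(IsLocalRing.residue K).injective, IsLocalRing.residue_surjective⟩)
  haveI : HenselianLocalRing K := inferInstance
  exact Groth.Agent.S0073.result K F p hp

variable {k : Type u} [Field k] [IsAlgClosed k] {X : Scheme.{u}}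

include k in
/-- skyscrapers at closed points are acyclic -/
theorem subsingleton_H_push_closedPoint (f : X ⟶ Spec (CommRingCat.of k)) [LocallyOfFiniteType f] (x : X)
    (hx : IsClosed ({x} : Set X)) (F : EtCoh.Ab (Spec (X.residueField x))) (p : ℕ) (hp : 1 ≤ p) :
    Subsingleton (EtCoh.H X ((EtCoh.push (X.fromSpecResidueField x)).obj F) p) := by
  haveI : IsAlgClosed (X.residueField x) :=
    IsAlgClosed.of_ringEquiv k _ (residueFieldIsoBase f x hx).symm.commRingCatIsoToRingEquiv
  haveI : IsClosedImmersion (X.fromSpecResidueField x) := isClosed_singleton_iff_isClosedImmersion.1 hx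
  haveI := EtContLib.pfl (X.fromSpecResidueField x)
  haveI : Subsingleton (EtCoh.H (Spec (X.residueField x)) F p) :=
    subsingleton_H_of_isAlgClosed (X.residueField x) F p hp
  exact (Groth.Agent.S14451.result (X.fromSpecResidueField x) F
    (fun q hq => Groth.Agent.S0071.result (X.fromSpecResidueField x) F q hq) p).1.subsingleton

end Groth.Agent.FieldCd
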