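import Groth.Agent.FieldCd.BrauerCd
import Groth.Agent.EtTorLib.SepAcyclic
import Groth.Agent.S0642

/-! higher direct images of sheaves on the spectrum of a field -/

universe u

open CategoryTheory CategoryTheory.Limits AlgebraicGeometry Opposite

namespace Groth.Agent.FieldCd

set_option autoImplicit false
set_option maxHeartbeats 1000000
set_option synthInstance.maxHeartbeats 400000
set_option backward.isDefEq.respectTransparency false
set_option backward.isDefEq.respectTransparency.types false
set_option linter.style.haveILetI false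

open EtFound EtLC12.AffineLocalAcyclic Adeq2Lib

variable {k : Type u} [Field k]

/-- no higher cohomology on the one point etale objects -/
def IsPtAcyclic (G : EtCoh.Ab (Spec (CommRingCat.of k))) : Prop :=
  ∀ (T : (Spec (CommRingCat.of k)).Etale), Nonempty T.left → Subsingleton T.left → ∀ i : ℕ, 1 ≤ i →
    Subsingleton (EtCoh.H T.left ((EtCoh.pull T.hom).obj G) i)

/-- points of etale schemes over a field are open -/
theorem isOpen_singleton (U : (Spec (CommRingCat.of k)).Etale) (x : U.left) : IsOpen ({x} : Set U.left) := by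
  obtain ⟨A, hA, hxA, -⟩ := exists_isAffineOpen_mem_and_subset (U := (⊤ : U.left.Opens)) (x := x) trivial
  haveI : Etale U.hom := U.prop
  let h : Spec Γ(U.left, A) ⟶ Spec (CommRingCat.of k) := hA.fromSpec ≫ U.hom
  haveI : Etale h := inferInstance
  let φ := Spec.preimage h
  have hφ : φ.hom.Etale := (HasRingHomProperty.Spec_iff (P := @Etale)).1 (by rw [Spec.map_preimage]; infer_instance)
  let B : Type u := Γ(U.left, A)
  letI : Algebra k B := φ.hom.toAlgebra
  haveI : Algebra.Etale k B := hφ
  haveI : Module.Finite k B := Algebra.FormallyUnramified.finite_of_free _ _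
  haveI : IsArtinianRing B := IsArtinianRing.of_finite k B
  haveI : DiscreteTopology (Spec Γ(U.left, A)) := inferInstanceAs (DiscreteTopology (PrimeSpectrum B))
  obtain ⟨y, hy⟩ : x ∈ Set.range hA.fromSpec.base := by rw [hA.range_fromSpec]; exact hxA
  have h1 := hA.fromSpec.isOpenEmbedding.isOpenMap {y} (isOpen_discrete _)
  rwa [Set.image_singleton, hy] at h1

/-- a one point etale object is the spectrum of a finite separable extension -/
theorem exists_pt_iso (T : (Spec (CommRingCat.of k)).Etale) (hne : Nonempty T.left) (hT : Subsingleton T.left) :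
    ∃ (L : Type u) (_ : Field L) (_ : Algebra k L) (_ : FiniteDimensional k L) (_ : Algebra.IsSeparable k L)
      (e : Spec (CommRingCat.of L) ≅ T.left), e.hom ≫ T.hom = Spec.map (CommRingCat.ofHom (algebraMap k L)) := by
  obtain ⟨x⟩ := hne
  obtain ⟨A, hA, hxA, -⟩ := exists_isAffineOpen_mem_and_subset (U := (⊤ : T.left.Opens)) (x := x) trivial
  have htop : A = ⊤ := top_le_iff.1 fun y _ => by rw [Subsingleton.elim y x]; exact hxA
  subst htop
  haveI : Etale T.hom := T.prop
  let h : Spec Γ(T.left, ⊤) ⟶ Spec (CommRingCat.of k) := hA.fromSpec ≫ T.hom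
  haveI : Etale h := inferInstance
  let φ := Spec.preimage h
  have hφ : φ.hom.Etale := (HasRingHomProperty.Spec_iff (P := @Etale)).1 (by rw [Spec.map_preimage]; infer_instance)
  let B : Type u := Γ(T.left, ⊤)
  letI : Algebra k B := φ.hom.toAlgebra
  haveI : Algebra.Etale k B := hφ
  haveI : Module.Finite k B := Algebra.FormallyUnramified.finite_of_free _ _
  haveI : IsReduced B := Algebra.FormallyUnramified.isReduced_of_field k B
  haveI : IsOpenImmersion hA.fromSpec := inferInstance
  haveI : Subsingleton (PrimeSpectrum B) := ⟨fun a b => hA.fromSpec.isOpenEmbedding.injective (Subsingleton.elim _ _)⟩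
  obtain ⟨y, -⟩ : x ∈ Set.range hA.fromSpec.base := by rw [hA.range_fromSpec]; exact hxA
  haveI : Nontrivial B := PrimeSpectrum.nontrivial (y : PrimeSpectrum B)
  have hfield : IsField B := by
    refine ⟨exists_pair_ne B, mul_comm, fun {a} ha => ?_⟩
    by_contra hne
    obtain ⟨q, hq, haq⟩ := exists_max_ideal_of_mem_nonunits (a := a) (fun hu => hne hu.exists_right_inv)
    have hmem : a ∈ nilradical B := by
      rw [nilradical_eq_sInf, Submodule.mem_sInf]
      intro J hJ
      have : (⟨J, hJ⟩ : PrimeSpectrum B) = ⟨q, hq.isPrime⟩ := Subsingleton.elim _ _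
      rw [show J = q from congrArg PrimeSpectrum.asIdeal this]
      exact haq
    rw [nilradical_eq_zero] at hmem
    exact ha (by simpa using hmem)
  letI : Field B := hfield.toField
  haveI : Algebra.IsSeparable k B := Algebra.FormallyUnramified.isSeparable k B
  haveI : Surjective hA.fromSpec := ⟨fun z => ⟨y, Subsingleton.elim _ _⟩⟩
  haveI : Epi hA.fromSpec.base := (TopCat.epi_iff_surjective _).2 hA.fromSpec.surjective
  haveI : IsIso hA.fromSpec := IsOpenImmersion.isIso hA.fromSpec
  refine ⟨B, inferInstance, inferInstance, inferInstance, inferInstance, asIso hA.fromSpec, ?_⟩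
  exact (Spec.map_preimage h).symm

variable (E : ShortComplex (EtCoh.Ab (Spec (CommRingCat.of k)))) (hE : E.ShortExact)

include hE in
theorem isPtAcyclic_X₃ (hI : Injective E.X₂) (h1 : IsPtAcyclic E.X₁) : IsPtAcyclic E.X₃ := by
  intro T hne hT i hi
  haveI := hI
  haveI : AlgebraicGeometry.Etale T.hom := T.prop
  haveI := jCont T.hom
  have hE' : (E.map (EtCoh.pull T.hom)).ShortExact := shortExact_pull (T.hom : T.left ⟶ _) hE
  haveI : Injective (E.map (EtCoh.pull T.hom)).X₂ := injective_pull T.hom E.X₂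
  haveI : ∀ k', Subsingleton (Sheaf.H (E.map (EtCoh.pull T.hom)).X₂ (k' + 1)) := fun k' =>
    subsingleton_of_forall_eq 0 fun x => Abelian.Ext.eq_zero_of_injective x
  obtain ⟨n, rfl⟩ := Nat.exists_eq_add_of_le hi
  rw [add_comm]
  obtain ⟨e⟩ := ZarCmp.shift _ hE' n
  haveI : Subsingleton (Sheaf.H (E.map (EtCoh.pull T.hom)).X₁ (n + 1 + 1)) := h1 T hne hT _ (by omega)
  exact e.toEquiv.subsingleton

include hE in
theorem sections_surjective_of_ptAcyclic (hI : Injective E.X₂) (h1 : IsPtAcyclic E.X₁)
    (U : (Spec (CommRingCat.of k)).Etale) : Function.Surjective (E.g.hom.app (op U)).hom := by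
  intro s
  let O : U.left → U.left.Opens := fun x => ⟨{x}, isOpen_singleton U x⟩
  let V : U.left → (Spec (CommRingCat.of k)).Etale := fun x => EtTorLib.openObj U (O x)
  let g : ∀ x, V x ⟶ U := fun x => EtTorLib.openHom U (O x)
  have hsub : ∀ x, Subsingleton (V x).left := fun x => ⟨fun a b => Subtype.ext
    ((Set.mem_singleton_iff.1 a.2).trans (Set.mem_singleton_iff.1 b.2).symm)⟩
  have hne : ∀ x, Nonempty (V x).left := fun x => ⟨(⟨x, rfl⟩ : (O x : Scheme.{u}))⟩
  choose t ht using fun x => EtTorLib.sections_surjective_of_H1 E hE hI (V x) (h1 _ (hne x) (hsub x) 1 le_rfl)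
    (E.X₃.obj.map (g x).op s)
  have hcov : ∀ p : U.left, ∃ (x : U.left) (v : (V x).left), (g x).left.base v = p :=
    fun p => ⟨p, (⟨p, rfl⟩ : (O p : Scheme.{u})), rfl⟩
  have hsh : ∀ F : EtCoh.Ab (Spec (CommRingCat.of k)), Presieve.IsSheafFor (F.obj ⋙ forget AddCommGrpCat.{u + 1})
      (Presieve.ofArrows V g) := fun F => by
    have hc : Sieve.generate (Presieve.ofArrows V g) ∈ (Spec (CommRingCat.of k)).smallEtaleTopology U :=
      (EtFound.mem_topology_iff _).2 fun p => by
        obtain ⟨x, v, hv⟩ := hcov p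
        exact ⟨V x, g x, v, Sieve.le_generate _ _ _ (Presieve.ofArrows.mk x), hv⟩
    exact (Presieve.isSheafFor_iff_generate _).2 (((isSheaf_iff_isSheaf_of_type _ _).1
      ((sheafCompose _ (forget AddCommGrpCat.{u + 1})).obj F).property) _ hc)
  have hcompat : Presieve.Arrows.Compatible (E.X₂.obj ⋙ forget AddCommGrpCat.{u + 1}) g t := by
    intro a b Z p q hpq
    show E.X₂.obj.map p.op (t a) = E.X₂.obj.map q.op (t b)
    by_cases hab : a = b
    · subst hab
      have : p = q := MorphismProperty.Over.Hom.ext ((cancel_mono (O a).ι).1 (congrArg (fun r => r.left) hpq))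
      rw [this]
    · refine sub_eq_zero.1 (EtTorLib.eq_zero_of_locally _ fun z => absurd ?_ hab)
      have h := congrArg (fun r : Z.left ⟶ U.left => r.base z) (congrArg (fun r => r.left) hpq)
      exact (Set.mem_singleton_iff.1 (p.left.base z).2).symm.trans
        (h.trans (Set.mem_singleton_iff.1 (q.left.base z).2))
  obtain ⟨y, hy, -⟩ := (Presieve.isSheafFor_arrows_iff _ _).1 (hsh E.X₂) t hcompat
  refine ⟨y, (hsh E.X₃).isSeparatedFor.ext fun Z v hv => ?_⟩
  obtain ⟨x⟩ := hv
  show E.X₃.obj.map (g x).op (E.g.hom.app (op U) y) = E.X₃.obj.map (g x).op s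
  rw [← NatTrans.naturality_apply E.g.hom (g x).op y, show E.X₂.obj.map (g x).op y = t x from hy x]
  exact ht x

variable {Y : Scheme.{u}} (f : Spec (CommRingCat.of k) ⟶ Y) [EtCoh.BCCont f]

theorem isZero_Rpush_of_isPtAcyclic {G : EtCoh.Ab (Spec (CommRingCat.of k))} (hG : IsPtAcyclic G) (q : ℕ)
    (hq : 1 ≤ q) : IsZero ((EtCoh.Rpush f q).obj G) := by
  obtain ⟨n, rfl⟩ : ∃ n, q = n + 1 := ⟨q - 1, by omega⟩
  haveI : PreservesFiniteLimits (EtCoh.push f) :=
    haveI := (EtCoh.pullPushAdj f).rightAdjoint_preservesLimits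
    PreservesLimitsOfSize.preservesFiniteLimits.{0, 0} _
  exact SitePullUnit.isZero_rightDerived_of_class (EtCoh.push f) IsPtAcyclic
    (fun E hE h hI => isPtAcyclic_X₃ E hE hI h)
    (fun E hE h hI => EtTorLib.epi_of_locally' _ fun U s x => ⟨U, 𝟙 U, x, by
      obtain ⟨t, ht⟩ := sections_surjective_of_ptAcyclic E hE hI h ((EtCoh.bc f).obj U) s
      exact ⟨t, ht.trans (by rw [op_id, CategoryTheory.Functor.map_id]; rfl), rfl⟩⟩) hG n

omit [EtCoh.BCCont f] in
/-- restriction of the multiplicative group along an etale morphism -/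
theorem nonempty_pull_Gm_iso {U X : Scheme.{u}} (j : U ⟶ X) [AlgebraicGeometry.Etale j] :
    Nonempty ((EtCoh.pull j).obj (EtCoh.Gm X) ≅ EtCoh.Gm U) := by
  haveI := jCont j
  refine ⟨(restrIsoPull j).symm.app (EtCoh.Gm X) ≪≫ ?_⟩
  exact (fullyFaithfulSheafToPresheaf _ _).preimageIso
    (NatIso.ofComponents (fun _ => Iso.refl _) fun f => by
      refine (Category.comp_id _).trans (Eq.trans ?_ (Category.id_comp _).symm)
      rfl)

/-- the multiplicative group is acyclic on points when the Brauer groups of the finite extensions are trivial -/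
theorem isPtAcyclic_Gm
    (hBr : ∀ (K' : Type u) [Field K'] [Algebra k K'] [FiniteDimensional k K']
      (D : Type u) [DivisionRing D] [Algebra K' D] [Algebra.IsCentral K' D] [FiniteDimensional K' D],
      Module.finrank K' D = 1) : IsPtAcyclic (EtCoh.Gm (Spec (CommRingCat.of k))) := by
  intro T hne hT i hi
  obtain ⟨L, _, _, _, _, e, he⟩ := exists_pt_iso T hne hT
  haveI : AlgebraicGeometry.Etale T.hom := T.prop
  obtain ⟨ι⟩ := nonempty_pull_Gm_iso (T.hom : T.left ⟶ Spec (CommRingCat.of k))
  refine subsingleton_H_of_iso ι.symm i ?_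
  obtain ⟨ι'⟩ := nonempty_pull_Gm_iso e.hom
  haveI : ∀ {A B : Scheme.{u}} (g : A ⟶ B), PreservesFiniteLimits (EtCoh.pull g) := fun g => EtContLib.pfl g
  have hL : Subsingleton (EtCoh.H (Spec (CommRingCat.of L)) ((EtCoh.pull e.hom).obj (EtCoh.Gm T.left)) i) := by
    refine subsingleton_H_of_iso ι'.symm i (subsingleton_H_Gm_of_brauer (fun K' _ _ _ D _ _ _ _ => ?_) i hi)
    letI : Algebra k K' := ((algebraMap L K').comp (algebraMap k L)).toAlgebra
    haveI : IsScalarTower k L K' := IsScalarTower.of_algebraMap_eq fun _ => rfl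
    haveI : FiniteDimensional k K' := Module.Finite.trans L K'
    exact hBr K' D
  exact subsingleton_of_forall_eq 0 fun x =>
    (Groth.Agent.S0642.result e.hom _ i).1 ((@Subsingleton.elim _ hL _ _).trans (map_zero _).symm)

end Groth.Agent.FieldCd
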