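import Groth.Agent.FieldCd.TwoStep
import Mathlib.GroupTheory.IndexNormal
import Mathlib.GroupTheory.Sylow

/-! vanishing of `H²` of the multiplicative group of a field and norms -/

universe u

open CategoryTheory CategoryTheory.Limits AlgebraicGeometry Opposite CategoryTheory.Abelian

namespace Groth.Agent.FieldCd

set_option autoImplicit false
set_option maxHeartbeats 1000000
set_option synthInstance.maxHeartbeats 400000
set_option backward.isDefEq.respectTransparency false
set_option backward.isDefEq.respectTransparency.types false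
set_option linter.style.haveILetI false

variable {k : Type u} [Field k]

section Translate

variable {G F : EtCoh.Ab (Spec (CommRingCat.of k))}

variable (k) in
/-- the final object as a point -/
noncomputable def ofTop : EtCoh.top (Spec (CommRingCat.of k)) ⟶ pt k k :=
  MorphismProperty.Over.homMk (𝟙 (Spec (CommRingCat.of k))) (by
    refine (Category.id_comp _).trans ?_
    show Spec.map (CommRingCat.ofHom (algebraMap k k)) = 𝟙 (Spec (CommRingCat.of k))
    exact Spec.map_id _)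

theorem secTop_bijective : Function.Bijective (G.obj.map (ofTop k).op) := by
  have h1 : ofTop k ≫ (EtCore.topIsTerminal (Spec (CommRingCat.of k))).from _ = 𝟙 _ :=
    (EtCore.topIsTerminal _).hom_ext _ _
  have h2 : (EtCore.topIsTerminal (Spec (CommRingCat.of k))).from (pt k k) ≫ ofTop k = 𝟙 _ := by
    obtain ⟨f, hf⟩ := exists_ptHom ((EtCore.topIsTerminal (Spec (CommRingCat.of k))).from (pt k k) ≫ ofTop k)
    rw [hf, show f = AlgHom.id k k from Subsingleton.elim _ _, ptHom_id]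
  haveI : IsIso (ofTop k) := ⟨⟨_, h1, h2⟩⟩
  exact ConcreteCategory.bijective_of_isIso _

/-- a section over `k` as a class in degree zero -/
noncomputable def secHom (G : EtCoh.Ab (Spec (CommRingCat.of k))) :
    (EtCoh.const (Spec (CommRingCat.of k)) ℤ ⟶ G) → Sec G k → Prop :=
  fun φ t => ((EtCore.constAdj _).homEquiv _ _ φ) ⟨1⟩ = G.obj.map (ofTop k).op t

theorem exists_sec (φ : EtCoh.const (Spec (CommRingCat.of k)) ℤ ⟶ G) : ∃ t, secHom G φ t := by
  obtain ⟨t, ht⟩ := secTop_bijective.2 (((EtCore.constAdj _).homEquiv _ _ φ) ⟨1⟩)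
  exact ⟨t, ht.symm⟩

theorem exists_hom (t : Sec G k) : ∃ φ : EtCoh.const (Spec (CommRingCat.of k)) ℤ ⟶ G, secHom G φ t :=
  ⟨((EtCore.constAdj _).homEquiv _ _).symm ((AddCommGrpCat.uliftZMultiplesAddEquiv _).symm (G.obj.map (ofTop k).op t)), by
    unfold secHom
    rw [Equiv.apply_symm_apply]
    exact (AddCommGrpCat.uliftZMultiplesAddEquiv _).apply_symm_apply _⟩

theorem secHom_comp (g : G ⟶ F) {φ : EtCoh.const (Spec (CommRingCat.of k)) ℤ ⟶ G} {t : Sec G k} (h : secHom G φ t) :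
    secHom F (φ ≫ g) (g.hom.app (op (pt k k)) t) := by
  show ((EtCore.constAdj _).homEquiv _ _ (φ ≫ g)) ⟨1⟩ = _
  rw [Adjunction.homEquiv_naturality_right]
  show g.hom.app (op (EtCoh.top _)) (((EtCore.constAdj _).homEquiv _ _ φ) ⟨1⟩) = _
  rw [show ((EtCore.constAdj _).homEquiv _ _ φ) ⟨1⟩ = _ from h]
  exact NatTrans.naturality_apply g.hom (ofTop k).op t

theorem secHom_hom_unique {φ ψ : EtCoh.const (Spec (CommRingCat.of k)) ℤ ⟶ G} {t : Sec G k} (h : secHom G φ t)
    (h' : secHom G ψ t) : φ = ψ :=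
  ((EtCore.constAdj _).homEquiv _ _).injective ((AddCommGrpCat.uliftZMultiplesAddEquiv _).injective (h.trans h'.symm))

theorem secHom_sec_unique {φ : EtCoh.const (Spec (CommRingCat.of k)) ℤ ⟶ G} {t t' : Sec G k} (h : secHom G φ t)
    (h' : secHom G φ t') : t = t' :=
  secTop_bijective.1 (h.symm.trans h')

theorem secHom_nsmul (n : ℕ) {φ : EtCoh.const (Spec (CommRingCat.of k)) ℤ ⟶ G} {t : Sec G k} (h : secHom G φ t) :
    secHom G (n • φ) (n • t) := by
  show ((EtCore.constAdj _).homEquiv _ _ (n • φ)) ⟨1⟩ = _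
  haveI : (EtCore.gsec (Spec (CommRingCat.of k))).Additive := ⟨fun {_ _ _ _} => rfl⟩
  rw [Adjunction.homEquiv_unit, Functor.map_nsmul, Preadditive.comp_nsmul, map_nsmul, ← Adjunction.homEquiv_unit]
  exact congrArg (n • ·) h

end Translate

variable (R : Res2 k)

/-- every class of `H²(Gm)` comes from a section of `Q₁` -/
theorem Res2.exists_class (x : EtCoh.H (Spec (CommRingCat.of k)) (EtCoh.Gm (Spec (CommRingCat.of k))) 2) :
    ∃ φ : EtCoh.const (Spec (CommRingCat.of k)) ℤ ⟶ R.Q₁,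
      ((Ext.mk₀ φ).comp R.se₁.extClass (zero_add 1)).comp R.se₀.extClass rfl = x := by
  haveI := R.inj₀
  haveI := R.inj₁
  haveI : Injective (ShortComplex.mk R.i R.q R.w₀).X₂ := R.inj₀
  haveI : Injective (ShortComplex.mk R.j R.r R.w₁).X₂ := R.inj₁
  obtain ⟨y, hy⟩ := Ext.covariant_sequence_exact₁ _ R.se₀ x (Ext.eq_zero_of_injective _) (rfl : 1 + 1 = 2)
  obtain ⟨z, hz⟩ := Ext.covariant_sequence_exact₁ _ R.se₁ y (Ext.eq_zero_of_injective _) (rfl : 0 + 1 = 1)
  obtain ⟨φ, rfl⟩ := (Ext.mk₀_bijective _ _).2 z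
  exact ⟨φ, by rw [hz]; exact hy⟩

/-- the class vanishes exactly when the section lifts -/
theorem Res2.class_eq_zero_iff {φ : EtCoh.const (Spec (CommRingCat.of k)) ℤ ⟶ R.Q₁} {z : Sec R.Q₁ k}
    (h : secHom R.Q₁ φ z) :
    ((Ext.mk₀ φ).comp R.se₁.extClass (zero_add 1)).comp R.se₀.extClass rfl = 0 ↔
      ∃ s : Sec R.I₁ k, R.r.hom.app (op (pt k k)) s = z := by
  haveI := R.inj₀
  haveI : Injective (ShortComplex.mk R.i R.q R.w₀).X₂ := R.inj₀
  refine ⟨fun h0 => ?_, fun ⟨s, hs⟩ => ?_⟩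
  · obtain ⟨y, hy⟩ := Ext.covariant_sequence_exact₃ _ R.se₀ _ (rfl : 1 + 1 = 2) h0
    rw [Ext.eq_zero_of_injective y, Ext.zero_comp] at hy
    obtain ⟨ψ', hψ⟩ := Ext.covariant_sequence_exact₃ _ R.se₁ (Ext.mk₀ φ) (rfl : 0 + 1 = 1) hy.symm
    obtain ⟨ψ, rfl⟩ := (Ext.mk₀_bijective _ _).2 ψ'
    rw [Ext.mk₀_comp_mk₀] at hψ
    obtain ⟨s, hs⟩ := exists_sec ψ
    have h1 := secHom_comp R.r hs
    rw [show ψ ≫ R.r = φ from (Ext.mk₀_bijective _ _).1 hψ] at h1
    exact ⟨s, secHom_sec_unique h1 h⟩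
  · obtain ⟨ψ, hψ⟩ := exists_hom s
    have h1 := secHom_comp R.r hψ
    rw [hs] at h1
    rw [← secHom_hom_unique h1 h, ← Ext.mk₀_comp_mk₀, Ext.comp_assoc_of_second_deg_zero]
    show Ext.comp (Ext.comp (Ext.mk₀ ψ) ((Ext.mk₀ (ShortComplex.mk R.j R.r R.w₁).g).comp R.se₁.extClass (zero_add 1)) (zero_add 1)) R.se₀.extClass rfl = 0
    rw [R.se₁.comp_extClass, Ext.comp_zero, Ext.zero_comp]

theorem Res2.class_nsmul (n : ℕ) (φ : EtCoh.const (Spec (CommRingCat.of k)) ℤ ⟶ R.Q₁) :
    n • ((Ext.mk₀ φ).comp R.se₁.extClass (zero_add 1)).comp R.se₀.extClass rfl =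
      ((Ext.mk₀ (n • φ)).comp R.se₁.extClass (zero_add 1)).comp R.se₀.extClass rfl := by
  induction n with
  | zero => simp only [zero_smul, Ext.mk₀_zero, Ext.zero_comp]
  | succ n ih => rw [succ_nsmul, succ_nsmul, Ext.mk₀_add, Ext.add_comp, Ext.add_comp, ih]

/-- `H¹(k, Gm) = 0` -/
theorem subsingleton_H1_Gm (k : Type u) [Field k] :
    Subsingleton (EtCoh.H (Spec (CommRingCat.of k)) (EtCoh.Gm (Spec (CommRingCat.of k))) 1) := by
  obtain ⟨R⟩ := exists_res2 k
  haveI := R.inj₀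
  haveI : Injective (ShortComplex.mk R.i R.q R.w₀).X₂ := R.inj₀
  refine subsingleton_of_forall_eq 0 fun x => ?_
  obtain ⟨z, rfl⟩ := Ext.covariant_sequence_exact₁ _ R.se₀ x (Ext.eq_zero_of_injective _) (rfl : 0 + 1 = 1)
  obtain ⟨φ, rfl⟩ := (Ext.mk₀_bijective _ _).2 z
  obtain ⟨t, ht⟩ := exists_sec φ
  obtain ⟨s, hs⟩ := exists_lift_gm R.i R.q R.w₀ R.se₀ t
  obtain ⟨ψ, hψ⟩ := exists_hom s
  have h1 := secHom_comp R.q hψ
  rw [hs] at h1
  rw [← secHom_hom_unique h1 ht, ← Ext.mk₀_comp_mk₀, Ext.comp_assoc_of_second_deg_zero]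
  show Ext.comp (Ext.mk₀ ψ) ((Ext.mk₀ (ShortComplex.mk R.i R.q R.w₀).g).comp R.se₀.extClass (zero_add 1)) (zero_add 1) = 0
  rw [R.se₀.comp_extClass, Ext.comp_zero]

/-- surjective norms for the cyclic extensions of degree `p` of the finite extensions -/
def NormSurj (k : Type u) [Field k] (p : ℕ) : Prop :=
  ∀ (K : Type u) [Field K] [Algebra k K], FiniteDimensional k K → Algebra.IsSeparable k K →
    ∀ (L : Type u) [Field L] [Algebra K L] [FiniteDimensional K L] [IsGalois K L],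
      Module.finrank K L = p → ∀ a : K, a ≠ 0 → ∃ y : L, Algebra.norm K y = a

theorem Res2.lift_of_galois_pgroup {p : ℕ} [Fact p.Prime] (hN : NormSurj k p) (d : ℕ) :
    ∀ (K M : Type u) [Field K] [Algebra k K] [FiniteDimensional k K] [Algebra.IsSeparable k K]
      [Field M] [Algebra k M] [FiniteDimensional k M] [Algebra.IsSeparable k M] [Algebra K M] [IsScalarTower k K M]
      [IsGalois K M], Module.finrank K M = p ^ d → ∀ (z : Sec R.Q₁ K) (w : Sec R.I₁ M),
        R.r.hom.app (op (pt k M)) w = resF R.Q₁ (incl k) z → ∃ s : Sec R.I₁ K, R.r.hom.app (op (pt k K)) s = z := by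
  induction d with
  | zero =>
    intro K M _ _ _ _ _ _ _ _ _ _ _ hd z w hw
    haveI : FiniteDimensional K M := Module.Finite.right k K M
    obtain ⟨s, hs⟩ := exists_descend (K := K) R.I₁ w fun γ => by
      have : Nat.card (M ≃ₐ[K] M) = 1 := by rw [IsGalois.card_aut_eq_finrank, hd, pow_zero]
      haveI := (Nat.card_eq_one_iff_unique.1 this).1
      rw [Subsingleton.elim γ 1, act_one]
    exact ⟨s, resF_incl_injective (K := K) (L := M) R.Q₁ (by rw [← resF_natural R.r, hs, hw])⟩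
  | succ d ih =>
    intro K M _ _ _ _ _ _ _ _ _ _ _ hd z w hw
    classical
    have hp : p.Prime := Fact.out
    haveI : FiniteDimensional K M := Module.Finite.right k K M
    have hcard : Nat.card (M ≃ₐ[K] M) = p ^ (d + 1) := by rw [IsGalois.card_aut_eq_finrank, hd]
    obtain ⟨H, hH⟩ := Sylow.exists_subgroup_card_pow_prime p (G := M ≃ₐ[K] M) (n := d)
      (hcard ▸ pow_dvd_pow p (Nat.le_succ d))
    have hidx : H.index = p := by
      have h := H.card_mul_index
      rw [hH, hcard, pow_succ] at h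
      exact Nat.eq_of_mul_eq_mul_left (pow_pos hp.pos d) h
    haveI : H.Normal := Subgroup.normal_of_index_eq_minFac_card (by
      rw [hidx, hcard, Nat.pow_minFac (Nat.succ_ne_zero d), hp.minFac_eq])
    let L : IntermediateField K M := IntermediateField.fixedField H
    haveI : IsGalois K L := IsGalois.of_fixedField_normal_subgroup H
    haveI : IsScalarTower k K L := IsScalarTower.of_algebraMap_eq fun c =>
      Subtype.ext (IsScalarTower.algebraMap_apply k K M c)
    haveI : IsScalarTower k L M := IsScalarTower.of_algebraMap_eq fun c => rfl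
    haveI : FiniteDimensional k L := Module.Finite.trans K L
    haveI : Algebra.IsSeparable k L := Algebra.isSeparable_tower_bot_of_isSeparable k L M
    have hLM : Module.finrank L M = p ^ d := (IntermediateField.finrank_fixedField_eq_card H).trans hH
    have hKL : Module.finrank K L = p := by
      have h := Module.finrank_mul_finrank K L M
      rw [hLM, hd, pow_succ', mul_comm p] at h
      exact Nat.eq_of_mul_eq_mul_left (pow_pos hp.pos d) ((mul_comm _ _).trans h)
    obtain ⟨t, ht⟩ := ih L M hLM (resF R.Q₁ (incl k) z) w (by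
      rw [hw, resF_resF]
      rfl)
    haveI : Fintype (L ≃ₐ[K] L) := Fintype.ofFinite _
    haveI : IsCyclic (L ≃ₐ[K] L) := isCyclic_of_prime_card (p := p) (by rw [IsGalois.card_aut_eq_finrank, hKL])
    obtain ⟨σ, hσ⟩ := IsCyclic.exists_generator (α := L ≃ₐ[K] L)
    exact R.exists_lift_cyclic σ hσ (hN K inferInstance inferInstance L hKL) z t ht

/-- surjectivity of norms kills the `p`-primary torsion of `H²(k, Gm)` -/
theorem torsion_H2_eq_zero {p : ℕ} [Fact p.Prime] (hN : NormSurj k p)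
    (x : EtCoh.H (Spec (CommRingCat.of k)) (EtCoh.Gm (Spec (CommRingCat.of k))) 2) (hx : ∃ m : ℕ, p ^ m • x = 0) :
    x = 0 := by
  classical
  have hp : p.Prime := Fact.out
  obtain ⟨R⟩ := exists_res2 k
  obtain ⟨m, hm⟩ := hx
  obtain ⟨φ, rfl⟩ := R.exists_class x
  obtain ⟨z, hz⟩ := exists_sec φ
  haveI : Epi R.r := R.se₁.epi_g
  obtain ⟨M, _, _, _, _, f, w, hw⟩ := exists_galois_lift R.r z
  obtain ⟨P⟩ : Nonempty (Sylow p (M ≃ₐ[k] M)) := inferInstance
  let K : IntermediateField k M := IntermediateField.fixedField (P : Subgroup (M ≃ₐ[k] M))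
  haveI : IsGalois K M := IsGalois.tower_top_of_isGalois k K M
  obtain ⟨a, ha⟩ := IsPGroup.iff_card.1 P.isPGroup'
  have hKM : Module.finrank K M = p ^ a := (IntermediateField.finrank_fixedField_eq_card _).trans ha
  have hndvd : ¬ p ∣ Module.finrank k K := by
    have h2 : Module.finrank k K * Module.finrank K M = Module.finrank k M := Module.finrank_mul_finrank k K M
    rw [hKM, ← IsGalois.card_aut_eq_finrank k M, ← (P : Subgroup (M ≃ₐ[k] M)).card_mul_index, ha, mul_comm] at h2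
    rw [Nat.eq_of_mul_eq_mul_left (pow_pos hp.pos a) h2]
    exact P.not_dvd_index
  obtain ⟨t, ht⟩ := R.lift_of_galois_pgroup hN a K M hKM (resF R.Q₁ (Algebra.ofId k K) z) w (by
    rw [hw, resF_resF]
    exact congrArg (fun g => resF R.Q₁ g z) (Subsingleton.elim _ _))
  obtain ⟨s₀, hs₀⟩ := exists_trace (K := K) (L := M) R.r K.val z t ht
  have h1 : Module.finrank k K • ((Ext.mk₀ φ).comp R.se₁.extClass (zero_add 1)).comp R.se₀.extClass rfl = 0 := by
    exact (R.class_nsmul _ φ).trans ((R.class_eq_zero_iff (secHom_nsmul _ hz)).2 ⟨s₀, hs₀⟩)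
  exact AddMonoid.addOrderOf_eq_one_iff.1 (Nat.eq_one_of_dvd_coprimes
    (((Nat.Prime.coprime_iff_not_dvd hp).2 hndvd).pow_left m) (addOrderOf_dvd_of_nsmul_eq_zero hm)
    (addOrderOf_dvd_of_nsmul_eq_zero h1))

/-- vanishing of the `p`-torsion of `H²(k, Gm)` makes norms of cyclic extensions of degree `p` surjective -/
theorem norm_surjective_of_H2 {p : ℕ} [Fact p.Prime]
    (h : ∀ x : EtCoh.H (Spec (CommRingCat.of k)) (EtCoh.Gm (Spec (CommRingCat.of k))) 2, p • x = 0 → x = 0)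
    (L : Type u) [Field L] [Algebra k L] [FiniteDimensional k L] [IsGalois k L] (hd : Module.finrank k L = p)
    (a : k) (ha : a ≠ 0) : ∃ y : L, Algebra.norm k y = a := by
  classical
  obtain ⟨R⟩ := exists_res2 k
  haveI : Fintype (L ≃ₐ[k] L) := Fintype.ofFinite _
  haveI : IsCyclic (L ≃ₐ[k] L) := isCyclic_of_prime_card (p := p) (by rw [IsGalois.card_aut_eq_finrank, hd])
  obtain ⟨σ, hσ⟩ := IsCyclic.exists_generator (α := L ≃ₐ[k] L)
  obtain ⟨z, w, v, hW⟩ := R.exists_witness (K := k) (L := L) σ hσ (Units.mk0 a ha)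
  obtain ⟨φ, hφ⟩ := exists_hom z
  obtain ⟨s₀, hs₀⟩ := exists_trace (K := L) (L := L) R.r (AlgHom.id k L) z w
    (hW.lift.trans (congrArg (fun g => resF R.Q₁ g z) (Subsingleton.elim _ _)))
  have h0 := h (((Ext.mk₀ φ).comp R.se₁.extClass (zero_add 1)).comp R.se₀.extClass rfl) (by
    exact (R.class_nsmul _ φ).trans ((R.class_eq_zero_iff (secHom_nsmul _ hφ)).2 ⟨s₀, by rw [hs₀, hd]⟩))
  obtain ⟨s, hs⟩ := (R.class_eq_zero_iff hφ).1 h0
  exact R.exists_norm_of_lift σ hW s hs

end Groth.Agent.FieldCd
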