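import Groth.Agent.FieldCd.Points
import Groth.Agent.EtFound.Detect
import Groth.Agent.EtFound.GermSupp
import Groth.Agent.SiteBase.AbSecExact
import Mathlib.FieldTheory.PrimitiveElement
import Mathlib.CategoryTheory.Limits.Shapes.ConcreteCategory

/-! Galois cochains with values in the sections of etale sheaves over a field -/

universe u

open CategoryTheory CategoryTheory.Limits AlgebraicGeometry Opposite

namespace Groth.Agent.FieldCd

set_option autoImplicit false
set_option maxHeartbeats 1000000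
set_option synthInstance.maxHeartbeats 400000
set_option backward.isDefEq.respectTransparency false
set_option backward.isDefEq.respectTransparency.types false
set_option linter.style.haveILetI false

variable {k : Type u} [Field k]

/-- sections over a finite separable extension -/
abbrev Sec (G : EtCoh.Ab (Spec (CommRingCat.of k))) (L : Type u) [Field L] [Algebra k L] [FiniteDimensional k L]
    [Algebra.IsSeparable k L] : Type (u + 1) :=
  G.obj.obj (op (pt k L))

section

variable {L M N : Type u} [Field L] [Algebra k L] [FiniteDimensional k L] [Algebra.IsSeparable k L]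
  [Field M] [Algebra k M] [FiniteDimensional k M] [Algebra.IsSeparable k M]
  [Field N] [Algebra k N] [FiniteDimensional k N] [Algebra.IsSeparable k N]
  (G : EtCoh.Ab (Spec (CommRingCat.of k)))

/-- restriction along a map of fields -/
noncomputable def resF (f : L →ₐ[k] M) : Sec G L →+ Sec G M := (G.obj.map (ptHom f).op).hom

theorem resF_resF (f : L →ₐ[k] M) (g : M →ₐ[k] N) (t : Sec G L) :
    resF G g (resF G f t) = resF G (g.comp f) t := by
  show G.obj.map (ptHom g).op (G.obj.map (ptHom f).op t) = G.obj.map (ptHom (g.comp f)).op t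
  rw [ptHom_comp, op_comp, Functor.map_comp_apply]

theorem resF_id (t : Sec G M) : resF G (AlgHom.id k M) t = t := by
  show G.obj.map (ptHom (AlgHom.id k M)).op t = t
  rw [ptHom_id, op_id, CategoryTheory.Functor.map_id]
  rfl

theorem resF_natural {G H : EtCoh.Ab (Spec (CommRingCat.of k))} (φ : G ⟶ H) (f : L →ₐ[k] M) (t : Sec G L) :
    φ.hom.app (op (pt k M)) (resF G f t) = resF H f (φ.hom.app (op (pt k L)) t) :=
  NatTrans.naturality_apply φ.hom (ptHom f).op t

/-- exactness of sections -/
theorem exists_sec_of_exact {A B C : EtCoh.Ab (Spec (CommRingCat.of k))} (f : A ⟶ B) (g : B ⟶ C) (w : f ≫ g = 0)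
    (h : (ShortComplex.mk f g w).ShortExact) (t : Sec B L) (ht : g.hom.app (op (pt k L)) t = 0) :
    ∃ s : Sec A L, f.hom.app (op (pt k L)) s = t :=
  (SiteBase.secExact_iff (ShortComplex.mk f g w) (pt k L)).1
    (h.exact.map_of_mono_of_preservesKernel
      (sheafToPresheaf (Spec (CommRingCat.of k)).smallEtaleTopology AddCommGrpCat.{u + 1} ⋙
        (evaluation (Spec (CommRingCat.of k)).Etaleᵒᵖ AddCommGrpCat.{u + 1}).obj (op (pt k L)))
      (haveI : Mono f := h.mono_f; inferInstanceAs (Mono f)) inferInstance) t ht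

theorem sec_injective {A B : EtCoh.Ab (Spec (CommRingCat.of k))} (f : A ⟶ B) [Mono f] :
    Function.Injective (f.hom.app (op (pt k L))) :=
  SiteBase.sheaf_app_injective f (pt k L)

/-- a section lifts along an epimorphism over a finite Galois extension -/
theorem exists_galois_lift {B C : EtCoh.Ab (Spec (CommRingCat.of k))} (g : B ⟶ C) [Epi g] (t : Sec C L) :
    ∃ (M : Type u) (_ : Field M) (_ : Algebra k M) (_ : FiniteDimensional k M) (_ : IsGalois k M)
      (f : L →ₐ[k] M) (s : Sec B M), g.hom.app (op (pt k M)) s = resF C f t := by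
  have hloc : Presheaf.IsLocallySurjective (Spec (CommRingCat.of k)).smallEtaleTopology g.hom :=
    (Sheaf.isLocallySurjective_iff_epi' AddCommGrpCat.{u + 1} g).2 inferInstance
  obtain ⟨V, a, v, ⟨s, hs⟩, -⟩ := (EtFound.mem_topology_iff _).1 (hloc.imageSieve_mem (U := pt k L) t)
    (default : PrimeSpectrum L)
  obtain ⟨M, _, _, _, _, b, z, -⟩ := exists_galois_point k V v
  obtain ⟨f, hf⟩ := exists_ptHom (b ≫ a)
  refine ⟨M, inferInstance, inferInstance, inferInstance, inferInstance, f, B.obj.map b.op s, ?_⟩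
  show _ = C.obj.map (ptHom f).op t
  rw [← hf, op_comp, Functor.map_comp_apply, NatTrans.naturality_apply g.hom b.op s]
  exact congrArg _ hs

end

variable {K L : Type u} [Field K] [Algebra k K] [FiniteDimensional k K] [Algebra.IsSeparable k K]
  [Field L] [Algebra k L] [FiniteDimensional k L] [Algebra.IsSeparable k L] [Algebra K L] [IsScalarTower k K L]
  (G : EtCoh.Ab (Spec (CommRingCat.of k)))

variable (k) in
/-- the inclusion of `K` in `L` -/
abbrev incl : K →ₐ[k] L := IsScalarTower.toAlgHom k K L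

/-- the Galois action on sections -/
noncomputable def act (γ : L ≃ₐ[K] L) : Sec G L →+ Sec G L := resF G (γ.toAlgHom.restrictScalars k)

theorem act_one (t : Sec G L) : act (k := k) (K := K) G 1 t = t :=
  resF_id G t

theorem act_mul (γ δ : L ≃ₐ[K] L) (t : Sec G L) : act G (γ * δ) t = act G γ (act G δ t) := by
  unfold act
  rw [resF_resF]
  exact congrArg (fun f => resF G f t) (AlgHom.ext fun c => rfl)

theorem act_resF (γ : L ≃ₐ[K] L) (t : Sec G K) : act G γ (resF G (incl k) t) = resF G (incl k) t := by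
  refine (resF_resF G _ _ t).trans ?_
  exact congrArg (fun f => resF G f t) (AlgHom.ext fun c => γ.commutes c)

theorem act_natural {G H : EtCoh.Ab (Spec (CommRingCat.of k))} (φ : G ⟶ H) (γ : L ≃ₐ[K] L) (t : Sec G L) :
    φ.hom.app (op (pt k L)) (act G γ t) = act H γ (φ.hom.app (op (pt k L)) t) :=
  resF_natural φ _ t

variable [IsGalois K L]

/-- two embeddings of a Galois extension which agree on the base differ by an automorphism -/
theorem exists_aut {N : Type u} [Field N] [Algebra k N] (f₁ f₂ : L →ₐ[k] N)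
    (h : f₁.comp (incl k (K := K)) = f₂.comp (incl k)) :
    ∃! γ : L ≃ₐ[K] L, f₁.comp (γ.toAlgHom.restrictScalars k) = f₂ := by
  haveI : FiniteDimensional K L := Module.Finite.right k K L
  letI : Algebra K N := (f₁.comp (incl k)).toRingHom.toAlgebra
  let g₁ : L →ₐ[K] N := { f₁.toRingHom with commutes' := fun _ => rfl }
  let g₂ : L →ₐ[K] N := { f₂.toRingHom with commutes' := fun c => congr($h c).symm }
  have hinj : Function.Injective fun γ : L ≃ₐ[K] L => g₁.comp γ.toAlgHom :=
    fun γ δ h => AlgEquiv.ext fun c => g₁.injective (congr($h c))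
  have hbij : Function.Bijective fun γ : L ≃ₐ[K] L => g₁.comp γ.toAlgHom := by
    refine (Nat.bijective_iff_injective_and_card _).2 ⟨hinj, le_antisymm (Nat.card_le_card_of_injective _ hinj) ?_⟩
    rw [IsGalois.card_aut_eq_finrank]
    exact card_algHom_le_finrank K L N
  obtain ⟨γ, hγ⟩ := hbij.2 g₂
  refine ⟨γ, AlgHom.ext fun c => congr($hγ c), fun δ hδ => hinj ?_⟩
  exact (AlgHom.ext fun c => congr($hδ c) : g₁.comp δ.toAlgHom = g₂).trans hγ.symm

omit [IsGalois K L] in
theorem resF_incl_injective : Function.Injective (resF G (incl k (K := K) (L := L))) := by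
  refine (injective_iff_map_eq_zero _).2 fun t ht => EtTorLib.eq_zero_of_locally t fun x => ?_
  exact ⟨pt k L, ptHom (incl k), (default : PrimeSpectrum L), ht,
    @Subsingleton.elim (PrimeSpectrum K) inferInstance _ _⟩

/-- invariant sections descend -/
theorem exists_descend (t : Sec G L) (ht : ∀ γ : L ≃ₐ[K] L, act G γ t = t) :
    ∃ y : Sec G K, resF G (incl k) y = t := by
  let X := Spec (CommRingCat.of k)
  let f : pt k L ⟶ pt k K := ptHom (incl k)
  have hcov : Sieve.generate (Presieve.singleton f) ∈ X.smallEtaleTopology (pt k K) :=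
    (EtFound.mem_topology_iff _).2 fun w => ⟨pt k L, f, (default : PrimeSpectrum L),
      Sieve.le_generate _ _ _ Presieve.singleton.mk, @Subsingleton.elim (PrimeSpectrum K) inferInstance _ _⟩
  have hsh := ((isSheaf_iff_isSheaf_of_type _ _).1
    ((sheafCompose X.smallEtaleTopology (forget AddCommGrpCat.{u + 1})).obj G).property).isSheafFor _ hcov
  rw [Presieve.isSheafFor_singleton] at hsh
  obtain ⟨y, hy, -⟩ := hsh t fun {Z} p₁ p₂ hp => by
    show G.obj.map p₁.op t = G.obj.map p₂.op t
    refine sub_eq_zero.1 (EtTorLib.eq_zero_of_locally _ fun w => ?_)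
    obtain ⟨N, _, _, _, _, a, v, hv⟩ := exists_galois_point k Z w
    refine ⟨pt k N, a, v, ?_, hv⟩
    obtain ⟨f₁, hf₁⟩ := exists_ptHom (a ≫ p₁)
    obtain ⟨f₂, hf₂⟩ := exists_ptHom (a ≫ p₂)
    have hag : f₁.comp (incl k (K := K)) = f₂.comp (incl k) := by
      have e : ptHom (f₁.comp (incl k (K := K))) = ptHom (f₂.comp (incl k)) := by
        rw [ptHom_comp, ptHom_comp, ← hf₁, ← hf₂, Category.assoc, Category.assoc, hp]
      refine AlgHom.ext fun c => ?_
      exact congr($(CommRingCat.hom_ext_iff.1 (Spec.map_injective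
        (congrArg (fun q : pt k N ⟶ pt k K => q.left) e))) c)
    obtain ⟨γ, hγ, -⟩ := exists_aut f₁ f₂ hag
    rw [map_sub, sub_eq_zero, ← Functor.map_comp_apply, ← Functor.map_comp_apply, ← op_comp, ← op_comp,
      hf₁, hf₂, ← hγ, ptHom_comp, op_comp, Functor.map_comp_apply]
    exact congrArg _ (ht γ).symm
  exact ⟨y, hy⟩

section Injective

variable (I : EtCoh.Ab (Spec (CommRingCat.of k))) [Injective I]

variable (k) in
/-- the geometric point -/
noncomputable abbrev gpt : Spec (CommRingCat.of (SeparableClosure k)) ⟶ Spec (CommRingCat.of k) :=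
  Spec.map (CommRingCat.ofHom (algebraMap k (SeparableClosure k)))

/-- the embedding into the skyscraper -/
noncomputable def toSky : I ⟶ (Scheme.pointSmallEtale (gpt k)).skyscraperSheaf
    ((Scheme.pointSmallEtale (gpt k)).presheafFiber.obj I.obj) :=
  ⟨(Scheme.pointSmallEtale (gpt k)).skyscraperPresheafHomEquiv (𝟙 _)⟩

omit [Injective I] in
theorem mono_toSky : Mono (toSky I) := by
  refine EtTorLib.mono_of_affine _ fun U _ s hs => EtTorLib.eq_zero_of_locally s fun x => ?_
  obtain ⟨w, -⟩ := Scheme.pointSmallEtaleFiberObjToPreimage_surjective (gpt k) rfl U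
    ⟨x, @Subsingleton.elim (PrimeSpectrum k) inferInstance _ _⟩
  obtain ⟨u, hu⟩ := Scheme.pointSmallEtaleFiberObjToPreimage_surjective (gpt k) rfl U
    ⟨x, @Subsingleton.elim (PrimeSpectrum k) inferInstance _ _⟩
  have h0 : (Scheme.pointSmallEtale (gpt k)).toPresheafFiber U u I.obj s = 0 := by
    have h := ConcreteCategory.congr_hom
      ((Scheme.pointSmallEtale (gpt k)).skyscraperPresheafHomEquiv_app_π (𝟙 _) U u) s
    refine h.symm.trans ?_
    show (Pi.π (fun _ : (Scheme.pointSmallEtale (gpt k)).fiber.obj U =>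
      (Scheme.pointSmallEtale (gpt k)).presheafFiber.obj I.obj) u).hom (((toSky I).hom.app (op U)).hom s) = 0
    exact (congrArg _ hs).trans (map_zero (Pi.π (fun _ : (Scheme.pointSmallEtale (gpt k)).fiber.obj U =>
      (Scheme.pointSmallEtale (gpt k)).presheafFiber.obj I.obj) u).hom)
  rw [← map_zero ((Scheme.pointSmallEtale (gpt k)).toPresheafFiber U u I.obj).hom] at h0
  obtain ⟨V, g, v, hv, hg⟩ := ((Scheme.pointSmallEtale (gpt k)).toPresheafFiber_eq_iff' U u _ _).1 h0
  rw [map_zero] at hg
  refine ⟨V, g, (v.left : Spec (CommRingCat.of (SeparableClosure k)) ⟶ V.left).base (default : PrimeSpectrum (SeparableClosure k)), hg, ?_⟩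
  refine (Scheme.Hom.comp_apply _ _ _).symm.trans ?_
  refine (?_ : _ = (u.left : Spec (CommRingCat.of (SeparableClosure k)) ⟶ U.left).base (default : PrimeSpectrum (SeparableClosure k))).trans
    ((congrArg _ (@Subsingleton.elim (PrimeSpectrum (SeparableClosure k)) inferInstance _ _)).trans (congrArg Subtype.val hu))
  rw [← hv]
  rfl

omit [IsGalois K L] in
/-- elements of products -/
theorem exists_pi {ι : Type u} (M : AddCommGrpCat.{u + 1}) (c : ι → M) :
    ∃ b : (∏ᶜ fun _ : ι => M : AddCommGrpCat.{u + 1}), ∀ i, Pi.π (fun _ : ι => M) i b = c i := by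
  let g : ∀ i, AddCommGrpCat.of (ULift.{u + 1} ℤ) ⟶ M := fun i =>
    AddCommGrpCat.ofHom ((zmultiplesHom M (c i)).comp (AddEquiv.ulift : ULift.{u + 1} ℤ ≃+ ℤ).toAddMonoidHom)
  refine ⟨Pi.lift g ⟨1⟩, fun i => ?_⟩
  rw [← ConcreteCategory.comp_apply, Pi.lift_π]
  exact one_zsmul (c i)

/-- the choice of a Galois orbit representative -/
theorem exists_orbit_rep :
    ∃ (r : (Scheme.pointSmallEtale (gpt k)).fiber.obj (pt k L) → (Scheme.pointSmallEtale (gpt k)).fiber.obj (pt k L))
      (g : (Scheme.pointSmallEtale (gpt k)).fiber.obj (pt k L) → (L ≃ₐ[K] L)),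
      (∀ z, (Scheme.pointSmallEtale (gpt k)).fiber.map (ptHom ((g z).toAlgHom.restrictScalars k)) (r z) = z) ∧
      ∀ z δ, r ((Scheme.pointSmallEtale (gpt k)).fiber.map (ptHom (δ.toAlgHom.restrictScalars k)) z) = r z ∧
        g ((Scheme.pointSmallEtale (gpt k)).fiber.map (ptHom (δ.toAlgHom.restrictScalars k)) z) = g z * δ := by
  classical
  let Ks := SeparableClosure k
  let Fib := fun (N : Type u) [Field N] [Algebra k N] [FiniteDimensional k N] [Algebra.IsSeparable k N] =>
    (Scheme.pointSmallEtale (gpt k)).fiber.obj (pt k N)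
  let Φ := (Scheme.pointSmallEtale (gpt k)).fiber
  have hom_of : ∀ z : Fib L, ∃ f : L →ₐ[k] Ks,
      (z.left : Spec (CommRingCat.of Ks) ⟶ (pt k L).left) = Spec.map (CommRingCat.ofHom f.toRingHom) := fun z => by
    let a : Spec (CommRingCat.of Ks) ⟶ Spec (CommRingCat.of L) := z.left
    have ha : a ≫ Spec.map (CommRingCat.ofHom (algebraMap k L)) = gpt k := CategoryTheory.Over.w z
    obtain ⟨φ, hφ⟩ : ∃ φ : CommRingCat.of L ⟶ CommRingCat.of Ks, Spec.map φ = a := ⟨Spec.preimage a, Spec.map_preimage a⟩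
    have hc : CommRingCat.ofHom (algebraMap k L) ≫ φ = CommRingCat.ofHom (algebraMap k Ks) :=
      Spec.map_injective ((Spec.map_comp _ _).trans ((congrArg (fun h => h ≫ _) hφ).trans ha))
    exact ⟨{ φ.hom with commutes' := fun x => congr($(hc) x) }, hφ.symm⟩
  choose α hα using hom_of
  have αinj : Function.Injective α := fun z z' h =>
    CategoryTheory.Over.OverMorphism.ext ((hα z).trans ((congrArg (fun f : L →ₐ[k] Ks =>
      Spec.map (CommRingCat.ofHom f.toRingHom)) h).trans (hα z').symm))
  have αmap : ∀ (z : Fib L) (δ : L ≃ₐ[K] L),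
      α (Φ.map (ptHom (δ.toAlgHom.restrictScalars k)) z) = (α z).comp (δ.toAlgHom.restrictScalars k) := fun z δ => by
    refine AlgHom.ext fun c => ?_
    have e := (hα (Φ.map (ptHom (δ.toAlgHom.restrictScalars k)) z)).symm.trans
      ((congrArg (fun h => h ≫ Spec.map (CommRingCat.ofHom (δ.toAlgHom.restrictScalars k).toRingHom)) (hα z)).trans
        (Spec.map_comp _ _).symm)
    exact congr($(CommRingCat.hom_ext_iff.1 (Spec.map_injective e)) c)
  let res : Fib L → (K →ₐ[k] Ks) := fun z => (α z).comp (incl k)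
  let r : Fib L → Fib L := fun z => Function.extend (fun w => res w) id (fun _ => z) (res z)
  have hr : ∀ z, res (r z) = res z := fun z => by
    have hex : ∃ w, res w = res z := ⟨z, rfl⟩
    show res (Function.extend res id _ (res z)) = _
    rw [Function.extend_def, dif_pos hex]
    exact Classical.choose_spec hex
  have hr' : ∀ z z', res z = res z' → r z = r z' := fun z z' e => by
    have hex : ∃ w, res w = res z := ⟨z, rfl⟩
    have hex' : ∃ w, res w = res z' := ⟨z', rfl⟩
    show Function.extend res id _ (res z) = Function.extend res id _ (res z')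
    rw [Function.extend_def, Function.extend_def, dif_pos hex, dif_pos hex']
    congr 1
    simp only [e]
  choose g hg hguniq using fun z => exists_aut (α (r z)) (α z) (hr z)
  refine ⟨r, g, fun z => αinj ((αmap _ _).trans (hg z)), fun z δ => ?_⟩
  have hres : res (Φ.map (ptHom (δ.toAlgHom.restrictScalars k)) z) = res z := by
    show (α _).comp _ = (α z).comp _
    rw [αmap]
    exact AlgHom.ext fun c => congrArg (α z) (δ.commutes c)
  have hrz := hr' _ _ hres
  refine ⟨hrz, (hguniq _ (g z * δ) ?_).symm⟩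
  show (α (r _)).comp _ = _
  rw [hrz, αmap]
  exact AlgHom.ext fun c => congr($(hg z) (δ c))

/-- `H^1` of the Galois group in the sections of an injective sheaf vanishes -/
theorem exists_cobound (c : (L ≃ₐ[K] L) → Sec I L) (hc : ∀ γ δ, c (γ * δ) = c γ + act I γ (c δ)) :
    ∃ b : Sec I L, ∀ γ, act I γ b - b = c γ := by
  let Φ := Scheme.pointSmallEtale (gpt k)
  let M := Φ.presheafFiber.obj I.obj
  let P := Φ.skyscraperSheaf M
  haveI := mono_toSky I
  obtain ⟨r, g, hrg, hδ⟩ := exists_orbit_rep (k := k) (K := K) (L := L)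
  let e : Sec I L →+ Sec P L := ((toSky I).hom.app (op (pt k L))).hom
  let π : Φ.fiber.obj (pt k L) → (Sec P L →+ M) := fun z => (Pi.π (fun _ : Φ.fiber.obj (pt k L) => M) z).hom
  have hπ : ∀ (δ : L ≃ₐ[K] L) (s : Sec P L) z,
      π z (act P δ s) = π (Φ.fiber.map (ptHom (δ.toAlgHom.restrictScalars k)) z) s := fun δ s z => by
    have h : P.obj.map (ptHom (δ.toAlgHom.restrictScalars k)).op ≫ Pi.π (fun _ : Φ.fiber.obj (pt k L) => M) z =
        Pi.π (fun _ : Φ.fiber.obj (pt k L) => M) (Φ.fiber.map (ptHom (δ.toAlgHom.restrictScalars k)) z) :=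
      Pi.lift_π _ _
    exact ConcreteCategory.congr_hom h s
  obtain ⟨b, hb⟩ := exists_pi M fun z => π (r z) (e (c (g z)))
  let b' : Sec P L := b
  have hb' : ∀ z, π z b' = π (r z) (e (c (g z))) := hb
  have key : ∀ γ, act P γ b' - b' = e (c γ) := fun γ =>
    Concrete.isLimit_ext _ (limit.isLimit _) _ _ fun ⟨z⟩ => by
      show π z (act P γ b' - b') = π z (e (c γ))
      rw [map_sub, hπ, hb', hb', (hδ z γ).1, (hδ z γ).2, hc, map_add, map_add, add_sub_cancel_left]
      refine (congrArg (π (r z)) (act_natural (toSky I) (g z) (c γ))).trans ((hπ _ _ _).trans ?_)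
      exact congrArg (fun w => π w (e (c γ))) (hrg z)
  let ρ : P ⟶ I := Injective.factorThru (𝟙 I) (toSky I)
  have hρ : ∀ s, ρ.hom.app (op (pt k L)) (e s) = s := fun s =>
    ConcreteCategory.congr_hom (congrArg (fun q : I ⟶ I => q.hom.app (op (pt k L)))
      (Injective.comp_factorThru (𝟙 I) (toSky I))) s
  refine ⟨ρ.hom.app (op (pt k L)) b', fun γ => ?_⟩
  rw [← act_natural ρ γ b', ← map_sub, key, hρ]

/-- invariant sections of an injective sheaf are norms -/
theorem exists_norm [Fintype (L ≃ₐ[K] L)] (s : Sec I L) (hs : ∀ γ : L ≃ₐ[K] L, act I γ s = s) :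
    ∃ b : Sec I L, ∑ γ, act (K := K) I γ b = s := by
  classical
  let Φ := Scheme.pointSmallEtale (gpt k)
  let M := Φ.presheafFiber.obj I.obj
  let P := Φ.skyscraperSheaf M
  haveI := mono_toSky I
  obtain ⟨r, g, hrg, hδ⟩ := exists_orbit_rep (k := k) (K := K) (L := L)
  let e : Sec I L →+ Sec P L := ((toSky I).hom.app (op (pt k L))).hom
  let π : Φ.fiber.obj (pt k L) → (Sec P L →+ M) := fun z => (Pi.π (fun _ : Φ.fiber.obj (pt k L) => M) z).hom
  have hπ : ∀ (δ : L ≃ₐ[K] L) (s : Sec P L) z,
      π z (act P δ s) = π (Φ.fiber.map (ptHom (δ.toAlgHom.restrictScalars k)) z) s := fun δ s z => by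
    have h : P.obj.map (ptHom (δ.toAlgHom.restrictScalars k)).op ≫ Pi.π (fun _ : Φ.fiber.obj (pt k L) => M) z =
        Pi.π (fun _ : Φ.fiber.obj (pt k L) => M) (Φ.fiber.map (ptHom (δ.toAlgHom.restrictScalars k)) z) :=
      Pi.lift_π _ _
    exact ConcreteCategory.congr_hom h s
  obtain ⟨b, hb⟩ := exists_pi M fun z => if g z = 1 then π z (e s) else 0
  let b' : Sec P L := b
  have hb' : ∀ z, π z b' = if g z = 1 then π z (e s) else 0 := hb
  have key : ∑ γ, act (K := K) P γ b' = e s :=
    Concrete.isLimit_ext _ (limit.isLimit _) _ _ fun ⟨z⟩ => by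
      show π z (∑ γ, act (K := K) P γ b') = π z (e s)
      rw [map_sum]
      refine (Finset.sum_eq_single (g z)⁻¹ (fun γ _ hne => ?_) (fun h => absurd (Finset.mem_univ _) h)).trans ?_
      · rw [hπ, hb', if_neg]
        rw [(hδ z γ).2]
        exact fun h => hne (eq_inv_of_mul_eq_one_right h)
      · rw [hπ, hb', if_pos (by rw [(hδ z _).2, mul_inv_cancel]), ← hπ]
        exact congrArg (π z) ((act_natural (toSky I) _ s).symm.trans (congrArg _ (hs _)))
  let ρ : P ⟶ I := Injective.factorThru (𝟙 I) (toSky I)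
  refine ⟨ρ.hom.app (op (pt k L)) b', ?_⟩
  rw [Finset.sum_congr rfl (fun γ _ => (act_natural ρ γ b').symm), ← map_sum, key]
  exact ConcreteCategory.congr_hom (congrArg (fun q : I ⟶ I => q.hom.app (op (pt k L)))
    (Injective.comp_factorThru (𝟙 I) (toSky I))) s

end Injective

section Cyclic

variable {G}

/-- a norm-zero element gives a cocycle on a cyclic group -/
theorem exists_cocycle_of_cyclic [Fintype (L ≃ₐ[K] L)] (σ : L ≃ₐ[K] L) (hσ : ∀ τ, τ ∈ Subgroup.zpowers σ)
    (v : Sec G L) (hv : ∑ γ, act (K := K) G γ v = 0) :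
    ∃ c : (L ≃ₐ[K] L) → Sec G L, c σ = v ∧ ∀ γ δ, c (γ * δ) = c γ + act G γ (c δ) := by
  classical
  let f : ℕ → Sec G L := fun i => ∑ j ∈ Finset.range i, act G (σ ^ j) v
  have fadd : ∀ a b, f (a + b) = f a + act G (σ ^ a) (f b) := fun a b => by
    show ∑ j ∈ Finset.range (a + b), _ = _
    rw [Finset.sum_range_add, map_sum]
    refine congrArg (f a + ·) (Finset.sum_congr rfl fun j _ => ?_)
    rw [pow_add, act_mul]
  let n := orderOf σ
  have hn : f n = 0 := by
    refine Eq.trans ?_ hv
    refine Finset.sum_bij (fun j _ => σ ^ j) (fun _ _ => Finset.mem_univ _) (fun a ha b hb h =>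
      pow_injOn_Iio_orderOf (Finset.mem_range.1 ha) (Finset.mem_range.1 hb) h) (fun γ _ => ?_) fun _ _ => rfl
    obtain ⟨j, hj⟩ := mem_zpowers_iff_mem_range_orderOf.1 (hσ γ) |> Finset.mem_image.1
    exact ⟨j, hj.1, hj.2⟩
  have hmul : ∀ q, f (n * q) = 0 := fun q => by
    induction q with
    | zero => simp [f]
    | succ q ih =>
      rw [Nat.mul_succ, fadd, ih, zero_add, hn, map_zero]
  have hmod : ∀ a b, σ ^ a = σ ^ b → f a = f b := fun a b h => by
    have e : a % n = b % n := pow_eq_pow_iff_modEq.1 h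
    rw [← Nat.div_add_mod a n, ← Nat.div_add_mod b n, fadd, fadd, hmul, hmul, zero_add, zero_add, e]
    simp [pow_mul, n, pow_orderOf_eq_one, act_one]
  choose idx hidx using fun γ => (mem_powers_iff_mem_zpowers (x := σ) (y := γ)).2 (hσ γ)
  refine ⟨fun γ => f (idx γ), ?_, fun γ δ => ?_⟩
  · show f (idx σ) = v
    rw [hmod (idx σ) 1 ((hidx σ).trans (pow_one σ).symm)]
    show ∑ j ∈ Finset.range 1, act G (σ ^ j) v = v
    rw [Finset.sum_range_one, pow_zero, act_one]
  · show f (idx (γ * δ)) = f (idx γ) + act G γ (f (idx δ))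
    rw [hmod (idx (γ * δ)) (idx γ + idx δ) ((hidx _).trans (by rw [pow_add]; exact (congrArg₂ (· * ·) (hidx γ) (hidx δ)).symm)),
      fadd, show σ ^ idx γ = γ from hidx γ]

end Cyclic

omit [Algebra K L] [IsScalarTower k K L] [IsGalois K L] in
/-- the trace: `[K : k]` times a section that lifts over `K` lifts -/
theorem exists_trace {B C : EtCoh.Ab (Spec (CommRingCat.of k))} (φ : B ⟶ C) [IsGalois k L] (ι : K →ₐ[k] L)
    (z : Sec C k) (s : Sec B K) (hs : φ.hom.app (op (pt k K)) s = resF C (Algebra.ofId k K) z) :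
    ∃ s₀ : Sec B k, φ.hom.app (op (pt k k)) s₀ = Module.finrank k K • z := by
  classical
  haveI : Fintype (K →ₐ[k] L) := Fintype.ofFinite _
  let T : Sec B L := ∑ h : K →ₐ[k] L, resF B h s
  obtain ⟨s₀, hs₀⟩ := exists_descend (K := k) (L := L) B T fun γ => by
    show act B γ (∑ h : K →ₐ[k] L, resF B h s) = _
    rw [map_sum]
    refine Fintype.sum_equiv (Equiv.arrowCongr' (Equiv.refl K) γ.toEquiv |> fun _ => ?_) _ _ fun h => ?_
    · exact { toFun := fun h => γ.toAlgHom.comp h
              invFun := fun h => γ.symm.toAlgHom.comp h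
              left_inv := fun h => AlgHom.ext fun c => γ.symm_apply_apply (h c)
              right_inv := fun h => AlgHom.ext fun c => γ.apply_symm_apply (h c) }
    · exact resF_resF B h _ s
  refine ⟨s₀, resF_incl_injective (K := k) (L := L) C ?_⟩
  rw [← resF_natural φ, hs₀, map_nsmul]
  show φ.hom.app (op (pt k L)) (∑ h : K →ₐ[k] L, resF B h s) = _
  rw [map_sum, Finset.sum_congr rfl (fun h _ => (resF_natural φ h s).trans ((congrArg _ hs).trans (resF_resF C _ h z)))]
  have he : ∀ h : K →ₐ[k] L, h.comp (Algebra.ofId k K) = incl k (K := k) (L := L) := fun h =>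
    Subsingleton.elim _ _
  rw [Finset.sum_congr rfl (fun h _ => congrArg (fun g => resF C g z) (he h)), Finset.sum_const]
  congr 1
  rw [Finset.card_univ, ← Nat.card_eq_fintype_card]
  refine AlgHom.natCard_of_splits k K L fun c => ?_
  rw [← minpoly.algHom_eq ι ι.injective c]
  exact Normal.splits inferInstance (ι c)

end Groth.Agent.FieldCd
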