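import Groth.Agent.S0099
import Mathlib.CategoryTheory.Limits.Constructions.Filtered
import Mathlib.CategoryTheory.Preadditive.AdditiveFunctor

/-! cohomology of direct sums of sheaves -/

universe u

open CategoryTheory CategoryTheory.Limits AlgebraicGeometry Opposite

namespace Groth.Agent.FieldCd

set_option autoImplicit false
set_option maxHeartbeats 1000000
set_option synthInstance.maxHeartbeats 400000
set_option backward.isDefEq.respectTransparency false
set_option backward.isDefEq.respectTransparency.types false

theorem isZero_pt_of_isColimit {C : Type*} [Category C] [HasZeroMorphisms C] {K : Type*} [Category K] {D : K ⥤ C}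
    {c : Cocone D} (hc : IsColimit c) (h : ∀ j, IsZero (D.obj j)) : IsZero c.pt :=
  (IsZero.iff_id_eq_zero _).2 (hc.hom_ext fun j => (h j).eq_of_src _ _)

/-- cohomology of a qcqs scheme kills direct sums of acyclic sheaves -/
theorem subsingleton_H_cofan {X : Scheme.{u}} [CompactSpace X] [QuasiSeparatedSpace X] (n : ℕ) {J : Type u}
    {G : J → EtCoh.Ab X} (c : Cofan G) (hc : IsColimit c) (h : ∀ j, Subsingleton (EtCoh.H X (G j) n)) :
    Subsingleton (EtCoh.H X c.pt n) := by
  classical
  haveI : IsFiltered (Finset (Discrete J)) := inferInstance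
  haveI := Groth.Agent.S0099.result X n (Finset (Discrete J))
  haveI : (EtCoh.HF X n).Additive := by unfold EtCoh.HF; infer_instance
  let D := CoproductsFromFiniteFiltered.liftToFinsetObj (Discrete.functor G)
  have hfin : ∀ s, IsZero ((EtCoh.HF X n).obj (D.obj s)) := fun s =>
    isZero_pt_of_isColimit
      (isColimitOfPreserves (EtCoh.HF X n) (coproductIsCoproduct fun x : s => (Discrete.functor G).obj x.1))
      fun x => @AddCommGrpCat.isZero_of_subsingleton _ (h x.as.1.as)
  have hz : IsZero ((EtCoh.HF X n).obj (colimit D)) :=
    isZero_pt_of_isColimit (isColimitOfPreserves (EtCoh.HF X n) (colimit.isColimit D)) hfin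
  have e := (CoproductsFromFiniteFiltered.liftToFinsetColimitCocone (Discrete.functor G)).isColimit
  exact AddCommGrpCat.subsingleton_of_isZero (hz.of_iso ((EtCoh.HF X n).mapIso
    (hc.coconePointUniqueUpToIso e)))

end Groth.Agent.FieldCd
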