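import Mathlib.FieldTheory.PrimitiveElement
import Mathlib.FieldTheory.Galois.Basic
import Mathlib.RingTheory.Norm.Transitivity
import Mathlib.FieldTheory.Fixed

/-! surjectivity of norms passes to algebraic extensions of the base -/

universe u

namespace Groth.Agent.FieldCd

open Polynomial

set_option autoImplicit false
set_option linter.style.haveILetI false

/-- if the norms of degree `p` Galois extensions of all finite extensions of `k` are surjective, the same holds
for all algebraic extensions of `k` -/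
theorem norm_surjective_of_algebraic {k : Type u} [Field k] {p : ℕ}
    (h : ∀ (K : Type u) [Field K] [Algebra k K], FiniteDimensional k K →
      ∀ (L : Type u) [Field L] [Algebra K L] [FiniteDimensional K L] [IsGalois K L],
        Module.finrank K L = p → ∀ a : K, a ≠ 0 → ∃ y : L, Algebra.norm K y = a)
    (K : Type u) [Field K] [Algebra k K] [Algebra.IsAlgebraic k K]
    (L : Type u) [Field L] [Algebra K L] [FiniteDimensional K L] [IsGalois K L]
    (hd : Module.finrank K L = p) (a : K) (ha : a ≠ 0) : ∃ y : L, Algebra.norm K y = a := by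
  classical
  obtain ⟨b, hb⟩ := Field.exists_primitive_element K L
  have hbi : IsIntegral K b := Algebra.IsIntegral.isIntegral b
  let f := minpoly K b
  have hfsep : f.Separable := Algebra.IsSeparable.isSeparable K b
  have hfspl : (f.map (algebraMap K L)).Splits := Normal.splits inferInstance b
  have hfdeg : f.natDegree = p := by
    rw [← hd]
    exact (Field.primitive_element_iff_minpoly_natDegree_eq K b).1 hb
  have hroots : ∀ r : f.rootSet L, ∃ g : K[X], aeval b g = (r : L) := fun r => by
    have : (r : L) ∈ IntermediateField.adjoin K {b} := hb ▸ trivial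
    rw [← IntermediateField.mem_toSubalgebra, IntermediateField.adjoin_simple_toSubalgebra_of_isAlgebraic
      hbi.isAlgebraic, Algebra.adjoin_singleton_eq_range_aeval] at this
    exact this
  choose g hg using hroots
  let S : Finset K := insert a (f.coeffs ∪ Finset.univ.biUnion fun r => (g r).coeffs)
  let K₀ : IntermediateField k K := IntermediateField.adjoin k (S : Set K)
  haveI : FiniteDimensional k K₀ := IntermediateField.finiteDimensional_adjoin fun x _ =>
    (Algebra.IsAlgebraic.isAlgebraic x).isIntegral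
  have hlift : ∀ q : K[X], q.coeffs ⊆ S → ∃ q₀ : (↥K₀)[X], q₀.map (algebraMap K₀ K) = q := fun q hq => by
    refine (Polynomial.mem_map_range _).2 ?_
    intro i
    by_cases hi : q.coeff i = 0
    · exact ⟨0, by rw [hi, map_zero]⟩
    · exact ⟨⟨q.coeff i, IntermediateField.subset_adjoin k _ (hq (coeff_mem_coeffs hi))⟩, rfl⟩
  let a₀ : K₀ := ⟨a, IntermediateField.subset_adjoin k _ (Finset.mem_insert_self _ _)⟩
  haveI : IsScalarTower K₀ K L := inferInstance
  obtain ⟨f₀, hf₀⟩ := hlift f (fun c hc => Finset.mem_insert_of_mem (Finset.mem_union_left _ hc))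
  have hf₀m : f₀.Monic := Polynomial.monic_of_injective (algebraMap K₀ K).injective
    (by rw [hf₀]; exact minpoly.monic hbi)
  have hf₀s : f₀.Separable := (Polynomial.separable_map (algebraMap K₀ K)).1 (hf₀ ▸ hfsep)
  have hmapL : f₀.map (algebraMap K₀ L) = f.map (algebraMap K L) := by
    rw [← hf₀, Polynomial.map_map]
    rfl
  let L₀ : IntermediateField K₀ L := IntermediateField.adjoin K₀ (f₀.rootSet L)
  haveI : f₀.IsSplittingField K₀ L₀ := IntermediateField.adjoin_rootSet_isSplittingField (hmapL ▸ hfspl)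
  haveI : FiniteDimensional K₀ L₀ := Polynomial.IsSplittingField.finiteDimensional L₀ f₀
  haveI : IsGalois K₀ L₀ := IsGalois.of_separable_splitting_field hf₀s
  have hbf : aeval b f₀ = 0 := by
    rw [aeval_def, ← eval_map, hmapL, eval_map, ← aeval_def, minpoly.aeval]
  have hbL : b ∈ L₀ := IntermediateField.subset_adjoin K₀ _ ((Polynomial.mem_rootSet_of_ne hf₀m.ne_zero).2 hbf)
  have hgen : L₀ = IntermediateField.adjoin K₀ {b} := by
    refine le_antisymm (IntermediateField.adjoin_le_iff.2 fun r hr => ?_)
      (IntermediateField.adjoin_le_iff.2 (Set.singleton_subset_iff.2 hbL))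
    have hrf : r ∈ f.rootSet L := by
      rw [Polynomial.mem_rootSet_of_ne (minpoly.ne_zero hbi), aeval_def, ← eval_map, ← hmapL, eval_map, ← aeval_def]
      exact (Polynomial.mem_rootSet_of_ne hf₀m.ne_zero).1 hr
    obtain ⟨g₀, hg₀⟩ := hlift (g ⟨r, hrf⟩) (fun c hc => Finset.mem_insert_of_mem (Finset.mem_union_right _
      (Finset.mem_biUnion.2 ⟨⟨r, hrf⟩, Finset.mem_univ _, hc⟩)))
    rw [← show aeval b (g ⟨r, hrf⟩) = r from hg ⟨r, hrf⟩, ← hg₀, Polynomial.aeval_map_algebraMap]
    exact IntermediateField.algebra_adjoin_le_adjoin K₀ _ (Polynomial.aeval_mem_adjoin_singleton _ _)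
  have hdeg : Module.finrank K₀ L₀ = p := by
    rw [hgen, IntermediateField.adjoin.finrank ⟨f₀, hf₀m, hbf⟩, ← hfdeg]
    refine le_antisymm ?_ ?_
    · calc (minpoly K₀ b).natDegree ≤ f₀.natDegree := natDegree_le_of_dvd (minpoly.dvd _ _ hbf) hf₀m.ne_zero
        _ = f.natDegree := by rw [← hf₀, natDegree_map]
    · rw [← natDegree_map (p := minpoly K₀ b) (algebraMap K₀ K)]
      exact natDegree_le_of_dvd (minpoly.dvd_map_of_isScalarTower K₀ K b)
        (Polynomial.map_ne_zero (minpoly.ne_zero ⟨f₀, hf₀m, hbf⟩))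
  obtain ⟨y, hy⟩ := h K₀ inferInstance L₀ hdeg a₀ fun e => ha (congrArg Subtype.val e)
  refine ⟨y, (algebraMap K L).injective ?_⟩
  rw [Algebra.norm_eq_prod_automorphisms]
  have hy' : (algebraMap K₀ L₀ a₀ : L) = ((∏ γ : L₀ ≃ₐ[K₀] L₀, γ y : L₀) : L) := by
    rw [← hy, Algebra.norm_eq_prod_automorphisms]
  refine Eq.trans ?_ (hy'.symm.trans rfl)
  rw [SubmonoidClass.coe_finset_prod]
  let res : (L ≃ₐ[K] L) → (L₀ ≃ₐ[K₀] L₀) := fun γ => (γ.restrictScalars K₀).restrictNormal L₀
  have hres : ∀ γ (z : L₀), (res γ z : L) = γ z := fun γ z => AlgEquiv.restrictNormal_commutes _ L₀ z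
  have hinj : Function.Injective res := fun γ δ e => by
    refine AlgEquiv.ext fun z => ?_
    have hz : z ∈ IntermediateField.adjoin K {b} := hb ▸ trivial
    induction hz using IntermediateField.adjoin_induction with
    | mem x hx =>
      rw [Set.mem_singleton_iff.1 hx]
      exact (hres γ ⟨b, hbL⟩).symm.trans ((congrArg (fun q => ((q ⟨b, hbL⟩ : L₀) : L)) e).trans (hres δ ⟨b, hbL⟩))
    | algebraMap x => exact (γ.commutes x).trans (δ.commutes x).symm
    | add x y _ _ hx hy => rw [map_add, map_add, hx, hy]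
    | inv x _ hx => rw [map_inv₀, map_inv₀, hx]
    | mul x y _ _ hx hy => rw [map_mul, map_mul, hx, hy]
  have hbij : Function.Bijective res := (Nat.bijective_iff_injective_and_card _).2
    ⟨hinj, by rw [IsGalois.card_aut_eq_finrank, IsGalois.card_aut_eq_finrank, hd, hdeg]⟩
  exact Fintype.prod_bijective res hbij _ _ fun γ => (hres γ y).symm

end Groth.Agent.FieldCd
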