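import Groth.Agent.FieldCd.BrauerH2
import Groth.Agent.FieldCd.Spread
import Groth.Agent.FieldCd.MaxPP
import Groth.Agent.EtLC12.MuConst
import Groth.Agent.CSALib.CyclicNorm
import Groth.Agent.S13292
import Groth.Agent.S13269
import Groth.Agent.S0108
import Groth.Prelude.Def_SixF3

/-! `p`-cohomological dimension at most one from surjectivity of norms -/

universe u

open CategoryTheory CategoryTheory.Limits AlgebraicGeometry Opposite CategoryTheory.Abelian

namespace Groth.Agent.FieldCd

set_option autoImplicit false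
set_option maxHeartbeats 1000000
set_option synthInstance.maxHeartbeats 400000
set_option backward.isDefEq.respectTransparency false
set_option backward.isDefEq.respectTransparency.types false
set_option linter.style.haveILetI false

/-- trivial Brauer groups give surjective norms in cyclic extensions -/
theorem norm_surjective_of_brauer {K : Type u} [Field K]
    (hBr : ∀ (D : Type u) [DivisionRing D] [Algebra K D] [Algebra.IsCentral K D] [FiniteDimensional K D],
      Module.finrank K D = 1)
    (L : Type u) [Field L] [Algebra K L] [FiniteDimensional K L] [IsGalois K L]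
    {p : ℕ} [Fact p.Prime] (hd : Module.finrank K L = p) (a : K) (ha : a ≠ 0) :
    ∃ y : L, Algebra.norm K y = a := by
  classical
  haveI : IsCyclic (L ≃ₐ[K] L) := isCyclic_of_prime_card (p := p) (by rw [IsGalois.card_aut_eq_finrank, hd])
  obtain ⟨σ, hσ⟩ := IsCyclic.exists_generator (α := L ≃ₐ[K] L)
  obtain ⟨B, hB⟩ := CSALib.exists_isCyclicAlg hσ (Units.mk0 a ha)
  obtain ⟨hc, hs, -⟩ := Groth.Agent.S13269.result K L σ hσ (Units.mk0 a ha) B hB
  haveI := hc
  haveI := hs
  haveI : FiniteDimensional K B := by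
    obtain ⟨_, _, -, -, -, h0, hfr⟩ := hB
    exact Module.finite_of_finrank_pos (by rw [hfr]; exact pow_pos h0 2)
  obtain ⟨n, hn, D, _, _, _, _, ⟨e⟩⟩ := CSALib.exists_division K B
  have hbij : Function.Bijective (Algebra.ofId K D) :=
    ⟨(algebraMap K D).injective, (LinearMap.injective_iff_surjective_of_finrank_eq_finrank
      ((Module.finrank_self K).trans (hBr D).symm) (f := (Algebra.ofId K D).toLinearMap)).1 (algebraMap K D).injective⟩
  refine ((Groth.Agent.S13292.result K L σ hσ (Units.mk0 a ha) B hB).1).1 ?_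
  exact ⟨n, NeZero.ne n, ⟨(Algebra.TensorProduct.lid K B).trans
    (e.trans (AlgEquiv.mapMatrix (AlgEquiv.ofBijective (Algebra.ofId K D) hbij).symm))⟩⟩

variable {p : ℕ} [Fact p.Prime]

/-- a field of characteristic prime to `p` with pro-`p` Galois group contains a primitive `p`-th root of unity -/
theorem exists_cyclotomic_root {E : Type u} [Field E] (hpro : ProP E p) (hp : (p : E) ≠ 0) :
    ∃ ζ : E, Polynomial.aeval ζ (Polynomial.cyclotomic p ℤ) = 0 := by
  haveI : NeZero (p : E) := ⟨hp⟩
  have hpp : p.Prime := Fact.out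
  have hdeg : (Polynomial.cyclotomic p E).natDegree = p - 1 := by
    rw [Polynomial.natDegree_cyclotomic, Nat.totient_prime hpp]
  have hnu : ¬ IsUnit (Polynomial.cyclotomic p E) := Polynomial.not_isUnit_of_natDegree_pos _ (by
    rw [hdeg]; have := hpp.two_le; omega)
  obtain ⟨g, hg, hdvd⟩ := WfDvdMonoid.exists_irreducible_factor hnu (Polynomial.cyclotomic_ne_zero p E)
  have hgs : g.Separable := (Polynomial.separable_cyclotomic p E).of_dvd hdvd
  haveI := Fact.mk hg
  haveI : FiniteDimensional E (AdjoinRoot g) := (AdjoinRoot.powerBasis hg.ne_zero).finite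
  obtain ⟨m, hm⟩ := hpro (AdjoinRoot g) inferInstance (CSALib.isSeparable_adjoinRoot g hgs)
  rw [(AdjoinRoot.powerBasis hg.ne_zero).finrank, AdjoinRoot.powerBasis_dim] at hm
  have hle : g.natDegree ≤ p - 1 := hdeg ▸ Polynomial.natDegree_le_of_dvd hdvd (Polynomial.cyclotomic_ne_zero p E)
  rcases m with _ | m
  · obtain ⟨ζ, hζ⟩ := Polynomial.exists_root_of_degree_eq_one
      ((Polynomial.degree_eq_natDegree hg.ne_zero).trans (by rw [hm, pow_zero]; rfl))
    refine ⟨ζ, ?_⟩
    have h : (Polynomial.cyclotomic p E).IsRoot ζ := hζ.dvd hdvd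
    rw [Polynomial.aeval_def, Polynomial.eval₂_eq_eval_map]
    rw [show algebraMap ℤ E = Int.castRingHom E from Subsingleton.elim _ _, Polynomial.map_cyclotomic]
    exact h
  · have : p ≤ g.natDegree := hm ▸ Nat.le_self_pow (Nat.succ_ne_zero m) p
    have := hpp.two_le
    omega

/-- `H²(ℤ/p) = 0` over a pro-`p` field with surjective norms -/
theorem subsingleton_H2_const {E : Type u} [Field E] (hpro : ProP E p) (hp : (p : E) ≠ 0) (hN : NormSurj E p) :
    Subsingleton (EtCoh.H (Spec (CommRingCat.of E)) (EtCoh.const (Spec (CommRingCat.of E)) (ZMod p)) 2) := by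
  let X := Spec (CommRingCat.of E)
  obtain ⟨ζ, hζ⟩ := exists_cyclotomic_root hpro hp
  let φ : E →+* Γ(X, ⊤) := (Scheme.ΓSpecIso (CommRingCat.of E)).inv.hom
  have hu : IsUnit (p : Γ(X, ⊤)) := by
    have h := (isUnit_iff_ne_zero.2 hp).map φ
    rwa [map_natCast] at h
  have hζ' : Polynomial.aeval (φ ζ) (Polynomial.cyclotomic p ℤ) = 0 :=
    (Polynomial.aeval_algHom_apply φ.toIntAlgHom ζ _).trans ((congrArg _ hζ).trans (map_zero _))
  haveI : NeZero p := ⟨(Fact.out : p.Prime).ne_zero⟩
  haveI := EtLC12.MuConst.isIso_constToMu hu (φ ζ) hζ'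
  refine subsingleton_H_of_iso (asIso (EtLC12.MuConst.constToMu (φ ζ) hζ')).symm 2 ?_
  have hE : Epi (EtCoh.powMap X p) := Groth.Agent.S0108.result X p hu
  have hS := EtSix.kummerShortExact hE
  refine subsingleton_of_forall_eq 0 fun y => ?_
  haveI := subsingleton_H1_Gm E
  have hmap : y.comp (Ext.mk₀ (kernel.ι (EtCoh.powMap X p))) (add_zero 2) = 0 := by
    refine torsion_H2_eq_zero hN _ ⟨1, ?_⟩
    rw [pow_one]
    refine (GalTorLib.HF_map_nsmul (EtCoh.Gm X) 2 p _).symm.trans ?_
    rw [GalTorLib.HF_map_apply, Ext.comp_assoc_of_third_deg_zero, Ext.mk₀_comp_mk₀]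
    show y.comp (Ext.mk₀ (kernel.ι (EtCoh.powMap X p) ≫ EtCoh.powMap X p)) _ = 0
    rw [kernel.condition, Ext.mk₀_zero, Ext.comp_zero]
  obtain ⟨z, hz⟩ := Ext.covariant_sequence_exact₁ _ hS y hmap (rfl : 1 + 1 = 2)
  rw [← hz, show z = 0 from @Subsingleton.elim _ ‹_› _ _, Ext.zero_comp]

/-- surjective norms in all separable algebraic extensions give `cd_p ≤ 1` -/
theorem cdLE_one_of_normSurj {k : Type u} [Field k] (hp : (p : k) ≠ 0)
    (hN : ∀ (K : Type u) [Field K] [Algebra k K] [Algebra.IsSeparable k K]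
      (L : Type u) [Field L] [Algebra K L] [FiniteDimensional K L] [IsGalois K L],
      Module.finrank K L = p → ∀ a : K, a ≠ 0 → ∃ y : L, Algebra.norm K y = a) :
    GalTorLib.CdLE (Spec (CommRingCat.of k)) p 1 := by
  refine cdLE_of_proP fun E hE => cdLE_of_subsingleton hE (subsingleton_H2_const hE
    (fun h => hp ((algebraMap k E).injective (by rw [map_natCast, map_zero]; exact h))) ?_)
  intro K _ _ _ _ L _ _ _ _ hd a ha
  letI : Algebra k K := ((algebraMap E K).comp (algebraMap k E)).toAlgebra
  haveI : IsScalarTower k E K := IsScalarTower.of_algebraMap_eq fun _ => rfl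
  haveI : Algebra.IsSeparable k K := Algebra.IsSeparable.trans k E K
  exact hN K L hd a ha

end Groth.Agent.FieldCd
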