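import Groth.Agent.EtTorLib.Sections
import Groth.Agent.EtFound.Presentation
import Groth.Prelude.Def_EtCore
import Mathlib.FieldTheory.SeparableClosure
import Mathlib.FieldTheory.Normal.Closure
import Mathlib.FieldTheory.Fixed
import Mathlib.GroupTheory.PGroup
import Mathlib.GroupTheory.FiniteAbelian.Basic
import Mathlib.RingTheory.Unramified.Field
import Mathlib.RingTheory.Etale.Field

/-! global sections of `p`-torsion sheaves over a field with pro-`p` Galois group -/

universe u

open CategoryTheory CategoryTheory.Limits AlgebraicGeometry Opposite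

namespace Groth.Agent.FieldCd

set_option autoImplicit false
set_option backward.isDefEq.respectTransparency false
set_option backward.isDefEq.respectTransparency.types false
set_option linter.style.haveILetI false

/-- every finite separable extension has `p`-power degree -/
def ProP (k : Type u) [Field k] (p : ℕ) : Prop :=
  ∀ (K : Type u) [Field K] [Algebra k K], FiniteDimensional k K → Algebra.IsSeparable k K →
    ∃ m : ℕ, Module.finrank k K = p ^ m

variable (k : Type u) [Field k]

theorem etale_str (M : Type u) [Field M] [Algebra k M] [FiniteDimensional k M] [Algebra.IsSeparable k M] :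
    Etale (Spec.map (CommRingCat.ofHom (algebraMap k M))) := by
  haveI : Algebra.FormallyEtale k M := (Algebra.FormallyEtale.iff_isSeparable k M).2 inferInstance
  haveI : Algebra.Etale k M := ⟨inferInstance, Algebra.FinitePresentation.of_finiteType.mp inferInstance⟩
  exact (HasRingHomProperty.Spec_iff (P := @Etale)).2 (RingHom.etale_algebraMap.2 inferInstance)

/-- the spectrum of a finite separable extension on the small etale site -/
noncomputable def pt (M : Type u) [Field M] [Algebra k M] [FiniteDimensional k M] [Algebra.IsSeparable k M] :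
    (Spec (CommRingCat.of k)).Etale :=
  haveI := etale_str k M
  Scheme.Etale.mk (Spec.map (CommRingCat.ofHom (algebraMap k M)))

variable {k}
variable {L M N : Type u} [Field L] [Algebra k L] [FiniteDimensional k L] [Algebra.IsSeparable k L]
  [Field M] [Algebra k M] [FiniteDimensional k M] [Algebra.IsSeparable k M]
  [Field N] [Algebra k N] [FiniteDimensional k N] [Algebra.IsSeparable k N]

/-- functoriality of `pt` -/
noncomputable def ptHom (f : L →ₐ[k] M) : pt k M ⟶ pt k L :=
  MorphismProperty.Over.homMk (Spec.map (CommRingCat.ofHom f.toRingHom)) (by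
    refine (Spec.map_comp _ _).symm.trans ?_
    exact congrArg (fun g => Spec.map (CommRingCat.ofHom g)) f.comp_algebraMap)

theorem ptHom_comp (f : L →ₐ[k] M) (g : M →ₐ[k] N) : ptHom (g.comp f) = ptHom g ≫ ptHom f :=
  MorphismProperty.Over.Hom.ext (Spec.map_comp (CommRingCat.ofHom f.toRingHom) (CommRingCat.ofHom g.toRingHom))

theorem ptHom_id : ptHom (AlgHom.id k M) = 𝟙 (pt k M) :=
  MorphismProperty.Over.Hom.ext (Spec.map_id _)

theorem exists_ptHom (a : pt k M ⟶ pt k L) : ∃ f : L →ₐ[k] M, a = ptHom f := by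
  let g : Spec (CommRingCat.of M) ⟶ Spec (CommRingCat.of L) := a.left
  have hg : g ≫ Spec.map (CommRingCat.ofHom (algebraMap k L)) = Spec.map (CommRingCat.ofHom (algebraMap k M)) :=
    MorphismProperty.Over.w a
  obtain ⟨φ, hφ⟩ : ∃ φ : CommRingCat.of L ⟶ CommRingCat.of M, Spec.map φ = g := ⟨Spec.preimage g, Spec.map_preimage g⟩
  have hc : CommRingCat.ofHom (algebraMap k L) ≫ φ = CommRingCat.ofHom (algebraMap k M) :=
    Spec.map_injective ((Spec.map_comp _ _).trans ((congrArg (fun h => h ≫ _) hφ).trans hg))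
  refine ⟨{ φ.hom with commutes' := fun x => congr($(hc) x) }, MorphismProperty.Over.Hom.ext hφ.symm⟩

variable (k)

/-- every point of an etale scheme over a field is hit by a finite separable extension -/
theorem exists_sep_point (U : (Spec (CommRingCat.of k)).Etale) (x : U.left) :
    ∃ (K : Type u) (_ : Field K) (_ : Algebra k K) (_ : FiniteDimensional k K) (_ : Algebra.IsSeparable k K)
      (g : pt k K ⟶ U) (z : (pt k K).left), g.left.base z = x := by
  obtain ⟨A, hA, hxA, -⟩ := exists_isAffineOpen_mem_and_subset (U := (⊤ : U.left.Opens)) (x := x) trivial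
  obtain ⟨y, hy⟩ : ∃ y, hA.fromSpec.base y = x := by
    have : x ∈ Set.range hA.fromSpec.base := by rw [hA.range_fromSpec]; exact hxA
    exact this
  haveI : Etale U.hom := U.prop
  let h : Spec Γ(U.left, A) ⟶ Spec (CommRingCat.of k) := hA.fromSpec ≫ U.hom
  haveI : Etale h := inferInstance
  let φ := Spec.preimage h
  have hφ : φ.hom.Etale := (HasRingHomProperty.Spec_iff (P := @Etale)).1 (by rw [Spec.map_preimage]; infer_instance)
  let B : Type u := Γ(U.left, A)
  letI : Algebra k B := φ.hom.toAlgebra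
  haveI : Algebra.Etale k B := hφ
  haveI : Module.Finite k B := Algebra.FormallyUnramified.finite_of_free _ _
  haveI : IsArtinianRing B := IsArtinianRing.of_finite k B
  let q : Ideal B := (y : PrimeSpectrum B).asIdeal
  haveI : q.IsPrime := (y : PrimeSpectrum B).isPrime
  haveI : q.IsMaximal := IsArtinianRing.isMaximal_of_isPrime q
  letI : Field (B ⧸ q) := Ideal.Quotient.field q
  haveI : Algebra.IsSeparable k (B ⧸ q) := Algebra.FormallyUnramified.isSeparable k (B ⧸ q)
  refine ⟨B ⧸ q, inferInstance, inferInstance, inferInstance, inferInstance,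
    MorphismProperty.Over.homMk (Spec.map (CommRingCat.ofHom (Ideal.Quotient.mk q)) ≫ hA.fromSpec) ?_,
    (default : PrimeSpectrum (B ⧸ q)), ?_⟩
  · refine (Category.assoc _ _ _).trans ?_
    show _ ≫ h = Spec.map (CommRingCat.ofHom (algebraMap k (B ⧸ q)))
    rw [← Spec.map_preimage h]
    refine (Spec.map_comp _ _).symm.trans ?_
    rfl
  · refine (Scheme.Hom.comp_apply _ _ _).trans ((congrArg hA.fromSpec.base ?_).trans hy)
    refine PrimeSpectrum.ext ?_
    show Ideal.comap (Ideal.Quotient.mk q) (default : PrimeSpectrum (B ⧸ q)).asIdeal = q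
    rw [(Ideal.eq_bot_or_top (default : PrimeSpectrum (B ⧸ q)).asIdeal).resolve_right (default : PrimeSpectrum (B ⧸ q)).isPrime.ne_top, ← RingHom.ker_eq_comap_bot,
      Ideal.mk_ker]

/-- every point is hit by a finite Galois extension -/
theorem exists_galois_point (U : (Spec (CommRingCat.of k)).Etale) (x : U.left) :
    ∃ (K : Type u) (_ : Field K) (_ : Algebra k K) (_ : FiniteDimensional k K) (_ : IsGalois k K)
      (g : pt k K ⟶ U) (z : (pt k K).left), g.left.base z = x := by
  obtain ⟨K, _, _, _, _, g, z, hz⟩ := exists_sep_point k U x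
  let Ks := SeparableClosure k
  let M : IntermediateField k Ks := IntermediateField.normalClosure k K Ks
  haveI : FiniteDimensional k M := normalClosure.is_finiteDimensional k K Ks
  haveI : IsGalois k M := ⟨⟩
  let τ : K →ₐ[k] Ks := IsSepClosed.lift
  let σ : K →ₐ[k] M := τ.codRestrict M.toSubalgebra fun a => τ.fieldRange_le_normalClosure ⟨a, rfl⟩
  refine ⟨M, inferInstance, inferInstance, inferInstance, inferInstance, ptHom σ ≫ g,
    (default : PrimeSpectrum M), ?_⟩
  refine Eq.trans ?_ hz
  refine (Scheme.Hom.comp_apply _ _ _).trans (congrArg g.left.base ?_)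
  exact @Subsingleton.elim (PrimeSpectrum K) inferInstance _ _

variable {k}

/-- a nonzero sheaf killed by a power of `p` has a nonzero global section killed by `p` -/
theorem exists_top_section {p : ℕ} [Fact p.Prime] (hpro : ProP k p) {G : EtCoh.Ab (Spec (CommRingCat.of k))}
    (hG : ¬ IsZero G) {m : ℕ} (hm : p ^ m • 𝟙 G = 0) :
    ∃ t : G.obj.obj (op (EtCoh.top (Spec (CommRingCat.of k)))), t ≠ 0 ∧ p • t = 0 := by
  classical
  have hk : ∀ (U) (s : G.obj.obj (op U)), p ^ m • s = 0 := fun U s => (EtFound.killedBy_iff_nsmul _ _).2 hm U s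
  -- a nonzero section
  obtain ⟨U, s, hs⟩ : ∃ (U : (Spec (CommRingCat.of k)).Etale) (s : G.obj.obj (op U)), s ≠ 0 := by
    by_contra hne
    push Not at hne
    refine hG ((IsZero.iff_id_eq_zero _).2 ?_)
    refine Sheaf.hom_ext (NatTrans.ext (funext fun U => AddCommGrpCat.ext fun s => ?_))
    exact (hne U.unop _).trans (hne U.unop _).symm
  obtain ⟨x, hx⟩ : ∃ x : U.left, ∀ (V : (Spec (CommRingCat.of k)).Etale) (g : V ⟶ U) (v : V.left),
      g.left.base v = x → G.obj.map g.op s ≠ 0 := by
    by_contra hne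
    push Not at hne
    refine hs (EtTorLib.eq_zero_of_locally s fun x => ?_)
    obtain ⟨V, g, v, hv, h0⟩ := hne x
    exact ⟨V, g, v, h0, hv⟩
  obtain ⟨M, _, _, _, _, g, z, hz⟩ := exists_galois_point k U x
  let t₀ : G.obj.obj (op (pt k M)) := G.obj.map g.op s
  have ht₀ : t₀ ≠ 0 := hx _ g z hz
  -- the Galois action
  let act : (M ≃ₐ[k] M) → G.obj.obj (op (pt k M)) →+ G.obj.obj (op (pt k M)) :=
    fun γ => (G.obj.map (ptHom γ.toAlgHom).op).hom
  have act_one : ∀ a, act 1 a = a := fun a => by
    show G.obj.map (ptHom (AlgHom.id k M)).op a = a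
    rw [ptHom_id, op_id, CategoryTheory.Functor.map_id]
    rfl
  have act_mul : ∀ γ δ a, act (γ * δ) a = act γ (act δ a) := fun γ δ a => by
    show G.obj.map (ptHom (γ.toAlgHom.comp δ.toAlgHom)).op a = _
    rw [ptHom_comp, op_comp, Functor.map_comp_apply]
  let H : AddSubgroup (G.obj.obj (op (pt k M))) := AddSubgroup.closure (Set.range fun γ => act γ t₀)
  have hH : ∀ γ, ∀ a ∈ H, act γ a ∈ H := fun γ a ha => by
    induction ha using AddSubgroup.closure_induction with
    | mem a ha =>
      obtain ⟨δ, rfl⟩ := ha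
      exact AddSubgroup.subset_closure ⟨γ * δ, act_mul γ δ t₀⟩
    | zero => rw [map_zero]; exact zero_mem _
    | add a b _ _ iha ihb => rw [map_add]; exact add_mem iha ihb
    | neg a _ iha => rw [map_neg]; exact neg_mem iha
  letI : MulAction (M ≃ₐ[k] M) H :=
    { smul := fun γ a => ⟨act γ a.1, hH γ a.1 a.2⟩
      one_smul := fun a => Subtype.ext (act_one a.1)
      mul_smul := fun γ δ a => Subtype.ext (act_mul γ δ a.1) }
  have hp : p.Prime := Fact.out
  haveI : AddGroup.FG H := AddGroup.closure_finite_fg _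
  haveI : Finite H := AddCommGroup.finite_of_fg_isAddTorsion H (fun a => isOfFinAddOrder_iff_nsmul_eq_zero.2
    ⟨p ^ m, pow_pos hp.pos m, Subtype.ext ((AddSubmonoidClass.coe_nsmul a _).trans (hk _ a.1))⟩)
  have hdvd : p ∣ Nat.card H := by
    let a : H := ⟨t₀, AddSubgroup.subset_closure ⟨1, act_one t₀⟩⟩
    have h1 : addOrderOf a ∣ p ^ m := addOrderOf_dvd_of_nsmul_eq_zero
      (Subtype.ext ((AddSubmonoidClass.coe_nsmul a _).trans (hk _ _)))
    obtain ⟨i, -, hi⟩ := (Nat.dvd_prime_pow hp).1 h1
    have hi0 : i ≠ 0 := fun h => ht₀ (congrArg Subtype.val (AddMonoid.addOrderOf_eq_one_iff.1 (by rw [hi, h, pow_zero])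
      : a = 0))
    exact ((dvd_pow_self p hi0).trans hi.symm.dvd).trans (addOrderOf_dvd_natCard a)
  obtain ⟨d, hd⟩ := hpro M inferInstance inferInstance
  have hP : IsPGroup p (M ≃ₐ[k] M) := IsPGroup.of_card (n := d) (by rw [IsGalois.card_aut_eq_finrank, hd])
  obtain ⟨b, hb, hb0⟩ := hP.exists_fixed_point_of_prime_dvd_card_of_fixed_point (α := H) hdvd (a := 0)
    (fun γ => Subtype.ext (map_zero (act γ)))
  have hbt : ∀ γ, act γ b.1 = b.1 := fun γ => congrArg Subtype.val (hb γ)
  -- descent
  let X := Spec (CommRingCat.of k)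
  let f : pt k M ⟶ EtCoh.top X := (EtCore.topIsTerminal X).from _
  have hcov : Sieve.generate (Presieve.singleton f) ∈ X.smallEtaleTopology (EtCoh.top X) := by
    refine (EtFound.mem_topology_iff _).2 fun w => ?_
    exact ⟨pt k M, f, (default : PrimeSpectrum M), Sieve.le_generate _ _ _ (Presieve.singleton.mk),
      @Subsingleton.elim (PrimeSpectrum k) inferInstance _ _⟩
  have hsh := ((isSheaf_iff_isSheaf_of_type _ _).1
    ((sheafCompose X.smallEtaleTopology (forget AddCommGrpCat.{u + 1})).obj G).property).isSheafFor _ hcov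
  rw [Presieve.isSheafFor_singleton] at hsh
  obtain ⟨y', hy', -⟩ := hsh b.1 fun {Z} p₁ p₂ _ => by
    show G.obj.map p₁.op b.1 = G.obj.map p₂.op b.1
    refine sub_eq_zero.1 (EtTorLib.eq_zero_of_locally _ fun w => ?_)
    obtain ⟨N, _, _, _, _, a, v, hv⟩ := exists_galois_point k Z w
    refine ⟨pt k N, a, v, ?_, hv⟩
    obtain ⟨f₁, hf₁⟩ := exists_ptHom (a ≫ p₁)
    obtain ⟨f₂, hf₂⟩ := exists_ptHom (a ≫ p₂)
    obtain ⟨γ, hγ⟩ : ∃ γ : M ≃ₐ[k] M, f₁.comp γ.toAlgHom = f₂ := by
      refine ((Nat.bijective_iff_injective_and_card _).2 ⟨fun γ δ h => ?_, le_antisymm ?_ ?_⟩).2 f₂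
      · exact AlgEquiv.ext fun c => f₁.injective (congr($h c))
      · exact Nat.card_le_card_of_injective (fun γ : M ≃ₐ[k] M => f₁.comp γ.toAlgHom)
          fun γ δ h => AlgEquiv.ext fun c => f₁.injective (congr($h c))
      · rw [IsGalois.card_aut_eq_finrank]
        exact card_algHom_le_finrank k M N
    rw [map_sub, sub_eq_zero, ← Functor.map_comp_apply, ← Functor.map_comp_apply, ← op_comp, ← op_comp,
      hf₁, hf₂, ← hγ, ptHom_comp, op_comp, Functor.map_comp_apply]
    exact congrArg _ (hbt γ).symm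
  let y : G.obj.obj (op (EtCoh.top X)) := y'
  have hy : G.obj.map f.op y = b.1 := hy'
  have hy0 : y ≠ 0 := fun h => hb0 (Subtype.ext (by rw [← hy, h, map_zero]; rfl))
  obtain ⟨i, -, hi⟩ := (Nat.dvd_prime_pow hp).1 (addOrderOf_dvd_of_nsmul_eq_zero (hk _ y))
  obtain ⟨j, rfl⟩ : ∃ j, i = j + 1 := ⟨i - 1, by
    rcases i with _ | i
    · exact absurd (AddMonoid.addOrderOf_eq_one_iff.1 (hi.trans (pow_zero p))) hy0
    · omega⟩
  refine ⟨p ^ j • y, fun h => ?_, ?_⟩
  · have := Nat.le_of_dvd (pow_pos hp.pos j) (addOrderOf_dvd_of_nsmul_eq_zero h)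
    rw [hi] at this
    exact absurd this (not_le.2 (Nat.pow_lt_pow_right hp.one_lt (Nat.lt_succ_self j)))
  · rw [← mul_nsmul', ← pow_succ', ← hi, addOrderOf_nsmul_eq_zero]

end Groth.Agent.FieldCd
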