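import Groth.Agent.FieldCd.Points
import Groth.Agent.GalTorLib.CohDim
import Groth.Agent.EtTorLib.ColimConstr
import Groth.Agent.EtLC12.QcqsAcyclic
import Groth.Agent.EtFound.NoethACC
import Groth.Agent.EtFound.Detect
import Groth.Agent.EtFound.ConstStalk
import Groth.Agent.S0142
import Mathlib.CategoryTheory.Abelian.Pseudoelements
import Mathlib.Order.OrderIsoNat

/-! cohomological dimension of fields with pro-`p` Galois group -/

universe u

open CategoryTheory CategoryTheory.Limits AlgebraicGeometry Opposite CategoryTheory.Abelian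

namespace Groth.Agent.FieldCd

set_option autoImplicit false
set_option maxHeartbeats 1000000
set_option synthInstance.maxHeartbeats 400000
set_option backward.isDefEq.respectTransparency false
set_option backward.isDefEq.respectTransparency.types false
set_option linter.style.haveILetI false

theorem isSepClosed_residueField (K : Type u) [Field K] [IsSepClosed K] :
    IsSepClosed (IsLocalRing.ResidueField K) := by
  let e := RingEquiv.ofBijective (IsLocalRing.residue K)
    ⟨(IsLocalRing.residue K).injective, IsLocalRing.residue_surjective⟩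
  exact IsSepClosed.of_exists_root _ fun P hm hi hs => by
    obtain ⟨x, hx⟩ := IsSepClosed.exists_root (P.map e.symm.toRingHom) (by
      rw [Polynomial.degree_map]; exact (Polynomial.degree_pos_of_irreducible hi).ne') (hs.map)
    refine ⟨e x, ?_⟩
    have := congrArg e hx
    rw [map_zero] at this
    rw [← this, Polynomial.eval_map, show e (Polynomial.eval₂ e.symm.toRingHom x P) = _ from
      Polynomial.hom_eval₂ P e.symm.toRingHom e.toRingHom x]
    simp [Polynomial.eval₂_id]

theorem subsingleton_H_of_isZero {X : Scheme.{u}} {G : EtCoh.Ab X} (h : IsZero G) (q : ℕ) :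
    Subsingleton (EtCoh.H X G q) :=
  subsingleton_of_forall_eq 0 fun x => by
    rw [← Ext.comp_mk₀_id x, (IsZero.iff_id_eq_zero G).1 h, Ext.mk₀_zero, Ext.comp_zero]

theorem subsingleton_H_of_iso {X : Scheme.{u}} {F G : EtCoh.Ab X} (e : F ≅ G) (q : ℕ)
    (h : Subsingleton (EtCoh.H X F q)) : Subsingleton (EtCoh.H X G q) :=
  haveI : Subsingleton ((EtCoh.HF X q).obj F) := h
  ((EtCoh.HF X q).mapIso e).addCommGroupIsoToAddEquiv.toEquiv.symm.subsingleton

theorem kernel_nsmul_eq_zero {X : Scheme.{u}} (F : EtCoh.Ab X) (N : ℕ) :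
    N • 𝟙 (kernel (N • 𝟙 F : F ⟶ F)) = 0 := by
  refine (cancel_mono (kernel.ι (N • 𝟙 F : F ⟶ F))).1 ?_
  rw [Preadditive.nsmul_comp, Category.id_comp, zero_comp]
  exact (show N • kernel.ι (N • 𝟙 F : F ⟶ F) = kernel.ι (N • 𝟙 F : F ⟶ F) ≫ (N • 𝟙 F) by
    rw [Preadditive.comp_nsmul, Category.comp_id]).trans (kernel.condition _)

variable {k : Type u} [Field k] {p : ℕ} [Fact p.Prime]

/-- a nonzero sheaf killed by a power of `p` contains `ℤ/p` -/
theorem exists_zmod_mono (hpro : ProP k p) {G : EtCoh.Ab (Spec (CommRingCat.of k))} (hG : ¬ IsZero G) {m : ℕ}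
    (hm : p ^ m • 𝟙 G = 0) :
    ∃ h : EtCoh.const (Spec (CommRingCat.of k)) (ZMod p) ⟶ G, Mono h ∧ h ≠ 0 := by
  let X := Spec (CommRingCat.of k)
  obtain ⟨t, ht, hpt⟩ := exists_top_section hpro hG hm
  let L : ZMod p →+ G.obj.obj (op (EtCoh.top X)) :=
    ZMod.lift p ⟨zmultiplesHom _ t, by simpa [natCast_zsmul] using hpt⟩
  have hL : L 1 = t :=
    ((congrArg L (Int.cast_one (R := ZMod p)).symm).trans (ZMod.lift_coe p _ 1)).trans (one_zsmul t)
  let φ : AddCommGrpCat.of (ULift.{u + 1} (ZMod p)) ⟶ (EtCore.gsec X).obj G :=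
    AddCommGrpCat.ofHom (L.comp (AddEquiv.ulift : ULift.{u + 1} (ZMod p) ≃+ ZMod p).toAddMonoidHom)
  let h : EtCoh.const X (ZMod p) ⟶ G := ((EtCore.constAdj X).homEquiv _ _).symm φ
  have hh : h ≠ 0 := fun e => by
    haveI : (EtCore.gsec X).Additive := ⟨fun {_ _ _ _} => rfl⟩
    have : φ = 0 := by
      rw [← ((EtCore.constAdj X).homEquiv _ _).apply_symm_apply φ]
      show (EtCore.constAdj X).homEquiv _ _ h = 0
      rw [e, Adjunction.homEquiv_unit, Functor.map_zero, comp_zero]
    exact ht (hL.symm.trans (ConcreteCategory.congr_hom this (⟨1⟩ : ULift.{u + 1} (ZMod p))))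
  refine ⟨h, ?_, hh⟩
  have hcase : ∀ (Ω : Type u) [Field Ω] [IsSepClosed Ω] (ξ : Spec (CommRingCat.of Ω) ⟶ X),
      Function.Injective ((EtCoh.stalk ξ).map h) ∨ ∀ a, (EtCoh.stalk ξ).map h a = 0 := fun Ω _ _ ξ => by
    have hb := EtFound.toSheafify_const_germ_bijective ξ AddCommGrpCat.{u + 1}
      (AddCommGrpCat.of (ULift.{u + 1} (ZMod p))) (EtCoh.top X) (CategoryTheory.Over.homMk ξ (Category.comp_id ξ))
    have hcard : Nat.card ((EtCoh.stalk ξ).obj (EtCoh.const X (ZMod p))) = p :=
      (Nat.card_congr (Equiv.ofBijective _ hb).symm).trans ((Nat.card_congr Equiv.ulift).trans (Nat.card_zmod p))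
    haveI : Fact (Nat.card ((EtCoh.stalk ξ).obj (EtCoh.const X (ZMod p)))).Prime := ⟨by rw [hcard]; exact Fact.out⟩
    rcases ((EtCoh.stalk ξ).map h).hom.ker.eq_bot_or_eq_top_of_prime_card with hk | hk
    · exact Or.inl ((AddMonoidHom.ker_eq_bot_iff _).1 hk)
    · exact Or.inr fun a => AddMonoidHom.mem_ker.1 (hk.symm ▸ AddSubgroup.mem_top a)
  by_cases hinj : ∃ (Ω : Type u) (_ : Field Ω) (_ : IsSepClosed Ω) (ξ : Spec (CommRingCat.of Ω) ⟶ X),
      Function.Injective ((EtCoh.stalk ξ).map h)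
  · obtain ⟨Ω, _, _, ξ, hξ⟩ := hinj
    exact (EtFound.mono_iff_stalks h).2 fun Ω' _ _ ξ' =>
      EtFound.injective_stalk_congr h ξ ξ' (@Subsingleton.elim (PrimeSpectrum k) inferInstance _ _) hξ
  · push Not at hinj
    refine absurd (EtFound.eq_of_stalks h 0 fun Ω i₁ i₂ ξ => AddCommGrpCat.ext fun a => ?_) hh
    exact ((@hcase Ω i₁ i₂ ξ).resolve_left (@hinj Ω i₁ i₂ ξ) a).trans
      (ConcreteCategory.congr_hom ((@EtCoh.stalk X Ω i₁ i₂ ξ).map_zero (EtCoh.const X (ZMod p)) G) a).symm

variable {n : ℕ}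

/-- constructible sheaves killed by a power of `p` -/
theorem subsingleton_constructible (hpro : ProP k p)
    (h0 : Subsingleton (EtCoh.H (Spec (CommRingCat.of k)) (EtCoh.const (Spec (CommRingCat.of k)) (ZMod p)) (n + 1)))
    (F : EtCoh.Ab (Spec (CommRingCat.of k))) (hF : EtPBC.IsConstructible F) {m : ℕ} (hm : p ^ m • 𝟙 F = 0) :
    Subsingleton (EtCoh.H (Spec (CommRingCat.of k)) F (n + 1)) := by
  let X := Spec (CommRingCat.of k)
  haveI : IsNoetherian X := inferInstance
  haveI : WellFoundedGT (Subobject F) :=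
    wellFoundedGT_iff_monotone_chain_condition.2 fun c => by
      obtain ⟨N, hN⟩ := Groth.Agent.S0142.result X F hF c
      exact ⟨N, fun j hj => (hN j hj).symm⟩
  let S : Set (Subobject F) := {G | Subsingleton (EtCoh.H X (G : EtCoh.Ab X) (n + 1))}
  have hbot : (⊥ : Subobject F) ∈ S :=
    subsingleton_H_of_isZero ((isZero_zero _).of_iso Subobject.botCoeIsoZero) _
  obtain ⟨G₀, hG₀, hmax⟩ := wellFounded_gt.has_min S ⟨⊥, hbot⟩
  let π := cokernel.π G₀.arrow
  by_cases hQ : IsZero (cokernel G₀.arrow)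
  · haveI : Epi G₀.arrow := Preadditive.epi_of_isZero_cokernel _ hQ
    haveI : IsIso G₀.arrow := isIso_of_mono_of_epi _
    exact subsingleton_H_of_iso (asIso G₀.arrow) _ hG₀
  exfalso
  have hmQ : p ^ m • 𝟙 (cokernel G₀.arrow) = 0 := by
    refine (cancel_epi π).1 ?_
    rw [Preadditive.comp_nsmul, Category.comp_id, comp_zero, ← Category.id_comp π, ← Preadditive.nsmul_comp, hm,
      zero_comp]
  obtain ⟨j, hj, hj0⟩ := exists_zmod_mono hpro hQ hmQ
  haveI := hj
  let P := pullback π j
  haveI : Mono (pullback.fst π j) := inferInstance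
  haveI : Epi (pullback.snd π j) := inferInstance
  let a : (G₀ : EtCoh.Ab X) ⟶ P := pullback.lift G₀.arrow 0 (by rw [cokernel.condition, zero_comp])
  have ha : a ≫ pullback.fst π j = G₀.arrow := pullback.lift_fst _ _ _
  haveI : Mono a := mono_of_mono_fac ha
  let T : ShortComplex (EtCoh.Ab X) := ShortComplex.mk a (pullback.snd π j) (pullback.lift_snd _ _ _)
  have hT : T.ShortExact := by
    haveI : Mono T.f := ‹Mono a›
    haveI : Epi T.g := ‹Epi (pullback.snd π j)›
    refine ShortComplex.ShortExact.mk' (T.exact_of_f_is_kernel ?_) inferInstance inferInstance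
    refine KernelFork.IsLimit.ofι' a T.zero fun {A} w hw => ⟨Abelian.monoLift G₀.arrow (w ≫ pullback.fst π j) ?_, ?_⟩
    · show (w ≫ pullback.fst π j) ≫ π = 0
      rw [Category.assoc, pullback.condition, ← Category.assoc]
      exact (congrArg (· ≫ j) hw).trans zero_comp
    · refine pullback.hom_ext ?_ ?_
      · rw [Category.assoc, ha, Abelian.monoLift_comp]
      · rw [Category.assoc, pullback.lift_snd, comp_zero]
        exact hw.symm
  have hP : Subsingleton (EtCoh.H X P (n + 1)) := by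
    refine subsingleton_of_forall_eq 0 fun x => ?_
    obtain ⟨w, hw⟩ := Ext.covariant_sequence_exact₂ _ hT x (@Subsingleton.elim _ h0 _ _)
    rw [← hw, show w = 0 from @Subsingleton.elim _ hG₀ _ _, Ext.zero_comp]
  let G₁ := Subobject.mk (pullback.fst π j)
  have hle : G₀ ≤ G₁ := Subobject.le_mk_of_comm a ha
  have hne : G₀ ≠ G₁ := fun e => by
    refine hj0 ((cancel_epi (pullback.snd π j)).1 ?_)
    rw [comp_zero, ← pullback.condition,
      ← Subobject.underlyingIso_arrow (pullback.fst π j), Category.assoc]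
    rw [← Subobject.ofLE_arrow (le_of_eq e.symm), Category.assoc, cokernel.condition, comp_zero, comp_zero]
  exact hmax G₁ (subsingleton_H_of_iso (Subobject.underlyingIso (pullback.fst π j)).symm _ hP)
    (lt_of_le_of_ne hle hne)

/-- cohomology of a colimit -/
theorem subsingleton_of_colimit {X : Scheme.{u}} [CompactSpace X] [QuasiSeparatedSpace X] {P : EtCoh.Ab X → Prop}
    {F : EtCoh.Ab X} (hP : EtTorLib.Good P) (hc : IsColimit (EtTorLib.cocone P F)) (q : ℕ)
    (h : ∀ i : EtTorLib.Idx P F, Subsingleton (EtCoh.H X i.p.E q)) : Subsingleton (EtCoh.H X F q) := by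
  haveI := EtTorLib.isFiltered_idx (F := F) hP
  haveI := EtLC12.QcqsAcyclic.preservesColimitsOfShape_HF X q (EtTorLib.Idx P F)
  have hc' := isColimitOfPreserves (forget AddCommGrpCat.{u + 1}) (isColimitOfPreserves (EtCoh.HF X q) hc)
  refine subsingleton_of_forall_eq 0 fun x => ?_
  obtain ⟨i, y, hy⟩ := Types.jointly_surjective _ hc' x
  have hy0 : y = (0 : EtCoh.H X i.p.E q) := @Subsingleton.elim _ (h i) _ _
  rw [← hy, hy0]
  exact map_zero ((EtCoh.HF X q).map ((EtTorLib.cocone P F).ι.app i)).hom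

/-- all sheaves killed by a power of `p`, all degrees above `n` -/
theorem subsingleton_killed (hpro : ProP k p)
    (h0 : Subsingleton (EtCoh.H (Spec (CommRingCat.of k)) (EtCoh.const (Spec (CommRingCat.of k)) (ZMod p)) (n + 1)))
    (m : ℕ) (q : ℕ) (hq : n < q) : ∀ (F : EtCoh.Ab (Spec (CommRingCat.of k))), p ^ m • 𝟙 F = 0 →
      Subsingleton (EtCoh.H (Spec (CommRingCat.of k)) F q) := by
  let X := Spec (CommRingCat.of k)
  have hp : p.Prime := Fact.out
  induction q, (Nat.succ_le_iff.2 hq) using Nat.le_induction with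
  | base =>
    intro F hF
    let P : EtCoh.Ab X → Prop := fun A => p ^ m • 𝟙 A = 0
    have hP : EtTorLib.Good P :=
      { iso := fun {A B} e hA => by
          show p ^ m • 𝟙 B = 0
          rw [← e.inv_hom_id, ← Category.id_comp e.hom, ← Preadditive.comp_nsmul, ← Preadditive.nsmul_comp, hA,
            zero_comp, comp_zero]
        zero := fun {A} hA => hA.eq_of_src _ _
        sum := fun {A B} hA hB => by
          refine biprod.hom_ext' _ _ ?_ ?_ <;> rw [Preadditive.comp_nsmul, Category.comp_id, comp_zero]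
          · rw [← Category.id_comp biprod.inl, ← Preadditive.nsmul_comp, hA, zero_comp]
          · rw [← Category.id_comp biprod.inr, ← Preadditive.nsmul_comp, hB, zero_comp]
        coker := fun {A B} f hB => by
          refine (cancel_epi (cokernel.π f)).1 ?_
          rw [Preadditive.comp_nsmul, Category.comp_id, comp_zero, ← Category.id_comp (cokernel.π f),
            ← Preadditive.nsmul_comp, hB, zero_comp] }
    obtain ⟨hc⟩ := EtTorLib.exists_isColimit hP (GalTorLib.isTorsion_of_nsmul_id F _ (pow_pos hp.pos m) hF)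
      fun U hU s _ _ _ => by
        haveI : NeZero (p ^ m) := ⟨(pow_pos hp.pos m).ne'⟩
        obtain ⟨h, hh⟩ := EtTorLib.exists_hom_gen s ((EtFound.killedBy_iff_nsmul _ _).2 hF U s)
        haveI := hU
        exact ⟨_, h, EtTorLib.gen U (p ^ m), S0133.result X U (ZMod (p ^ m)),
          EtFound.extZeroConst_nsmul U (fun a => by simp), hh⟩
    exact subsingleton_of_colimit hP hc _ fun i => subsingleton_constructible hpro h0 _ i.p.isConstructible i.hp
  | succ q hq' ih =>
    intro F hF
    let Ks := SeparableClosure k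
    let f : Spec (CommRingCat.of Ks) ⟶ X := Spec.map (CommRingCat.ofHom (algebraMap k Ks))
    haveI : IsIntegralHom f := IsIntegralHom.SpecMap_iff.2 (algebraMap_isIntegral_iff.2 inferInstance)
    haveI : Surjective f := ⟨fun y => ⟨(default : PrimeSpectrum Ks), @Subsingleton.elim (PrimeSpectrum k) inferInstance _ _⟩⟩
    haveI := EtContLib.pfl f
    haveI := EtFound.pullback_faithful (A := AddCommGrpCat.{u + 1}) f
    haveI : Mono ((EtCoh.pullPushAdj f).unit.app F) := Adjunction.unit_mono_of_L_faithful _ _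
    haveI := isSepClosed_residueField Ks
    haveI : HenselianLocalRing Ks := inferInstance
    let I := (EtCoh.push f).obj ((EtCoh.pull f).obj F)
    have hI : ∀ j, 1 ≤ j → Subsingleton (EtCoh.H X I j) := fun j hj => by
      have hb := Groth.Agent.S14451.result f ((EtCoh.pull f).obj F)
        (fun i hi => Groth.Agent.S3054.result f _ i hi) j
      haveI := Groth.Agent.S0073.result Ks ((EtCoh.pull f).obj F) j hj
      exact hb.1.subsingleton
    let T := ShortComplex.mk ((EtCoh.pullPushAdj f).unit.app F) (cokernel.π _) (cokernel.condition _)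
    have hT : T.ShortExact := { exact := ShortComplex.exact_of_g_is_cokernel _ (cokernelIsCokernel _) }
    haveI : (EtCoh.pull f).Additive := (EtCoh.pullPushAdj f).left_adjoint_additive
    have hQ : p ^ m • 𝟙 T.X₃ = 0 := by
      refine (cancel_epi T.g).1 ?_
      rw [Preadditive.comp_nsmul, Category.comp_id, comp_zero, ← Category.id_comp T.g, ← Preadditive.nsmul_comp]
      refine (congrArg (· ≫ T.g) (?_ : p ^ m • 𝟙 I = 0)).trans zero_comp
      rw [← CategoryTheory.Functor.map_id, ← Functor.map_nsmul, ← CategoryTheory.Functor.map_id,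
        ← Functor.map_nsmul, hF, Functor.map_zero, Functor.map_zero]
    refine subsingleton_of_forall_eq 0 fun x => ?_
    obtain ⟨z, hz⟩ := Ext.covariant_sequence_exact₁ _ hT x
      (@Subsingleton.elim _ (hI (q + 1) (Nat.le_add_left _ _)) _ _) (n₀ := q) rfl
    rw [← hz, show z = 0 from @Subsingleton.elim _ (ih hq' T.X₃ hQ) _ _, Ext.zero_comp]

/-- the `p`-cohomological dimension is detected by `ℤ/p` -/
theorem cdLE_of_subsingleton (hpro : ProP k p)
    (h0 : Subsingleton (EtCoh.H (Spec (CommRingCat.of k)) (EtCoh.const (Spec (CommRingCat.of k)) (ZMod p)) (n + 1))) :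
    GalTorLib.CdLE (Spec (CommRingCat.of k)) p n := by
  let X := Spec (CommRingCat.of k)
  intro F hF q hq x ⟨m, hm⟩
  have hp : p.Prime := Fact.out
  let P : EtCoh.Ab X → Prop := fun _ => True
  have hP : EtTorLib.Good P := ⟨fun _ _ => trivial, fun _ => trivial, fun _ _ => trivial, fun _ _ => trivial⟩
  obtain ⟨hc⟩ := EtTorLib.exists_isColimit hP hF fun U hU s N hN hs => by
    haveI : NeZero N := ⟨hN.ne'⟩
    obtain ⟨h, hh⟩ := EtTorLib.exists_hom_gen s hs
    haveI := hU
    exact ⟨_, h, EtTorLib.gen U N, S0133.result X U (ZMod N), trivial, hh⟩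
  haveI := EtTorLib.isFiltered_idx (F := F) hP
  haveI := EtLC12.QcqsAcyclic.preservesColimitsOfShape_HF X q (EtTorLib.Idx P F)
  have hc' := isColimitOfPreserves (forget AddCommGrpCat.{u + 1}) (isColimitOfPreserves (EtCoh.HF X q) hc)
  let D := EtTorLib.diagram P F
  let c := EtTorLib.cocone P F
  obtain ⟨i, y, hy⟩ := Types.jointly_surjective _ hc' x
  let y' : (EtCoh.HF X q).obj (D.obj i) := y
  replace hy : (EtCoh.HF X q).map (c.ι.app i) y' = x := hy
  obtain ⟨j, g, hg⟩ := (Types.FilteredColimit.isColimit_eq_iff' hc' (p ^ m • y' : (EtCoh.HF X q).obj (D.obj i))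
      (0 : (EtCoh.HF X q).obj (D.obj i))).1 (by
    show (EtCoh.HF X q).map (c.ι.app i) (p ^ m • y') = (EtCoh.HF X q).map (c.ι.app i) 0
    rw [map_nsmul, hy, map_zero]
    exact hm)
  let z : (EtCoh.HF X q).obj (D.obj j) := (EtCoh.HF X q).map (D.map g) y'
  replace hg : (EtCoh.HF X q).map (D.map g) (p ^ m • y') = (EtCoh.HF X q).map (D.map g) 0 := hg
  have hz : p ^ m • z = 0 := by rw [← map_nsmul, hg, map_zero]
  have hxz : (EtCoh.HF X q).map (c.ι.app j) z = x := by
    refine Eq.trans ?_ hy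
    rw [← c.w g, Functor.map_comp]
    rfl
  suffices hz0 : z = 0 by rw [← hxz, hz0, map_zero]
  let A := D.obj j
  obtain ⟨a, n', hn', hN⟩ := Nat.exists_eq_pow_mul_and_not_dvd j.p.pos.ne' p hp.ne_one
  have hA : j.p.n • 𝟙 A = 0 := j.p.nsmul_eq_zero
  let φ : A ⟶ A := n' • 𝟙 A
  have hφ : φ ≫ (p ^ a • 𝟙 A) = 0 := by
    rw [Preadditive.comp_nsmul, Category.comp_id, smul_smul, ← hN, hA]
  have hker : Subsingleton (EtCoh.H X (kernel (p ^ a • 𝟙 A : A ⟶ A)) q) :=
    subsingleton_killed hpro h0 a q hq _ (kernel_nsmul_eq_zero A _)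
  have h1 : n' • z = 0 := by
    rw [← GalTorLib.HF_map_nsmul A q n' z, show (n' • 𝟙 A : A ⟶ A) = φ from rfl, ← kernel.lift_ι _ φ hφ,
      Functor.map_comp, ConcreteCategory.comp_apply]
    exact (congrArg _ (@Subsingleton.elim _ hker _ (0 : EtCoh.H X (kernel (p ^ a • 𝟙 A : A ⟶ A)) q))).trans (map_zero _)
  refine AddMonoid.addOrderOf_eq_one_iff.1 (Nat.eq_one_of_dvd_coprimes ?_ (addOrderOf_dvd_of_nsmul_eq_zero hz)
    (addOrderOf_dvd_of_nsmul_eq_zero h1))
  exact ((Nat.Prime.coprime_iff_not_dvd hp).2 hn').pow_left m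

end Groth.Agent.FieldCd
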