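import Groth.Agent.FieldCd.Units
import Mathlib.RingTheory.Norm.Basic

/-! second cohomology of the multiplicative group in a cyclic extension -/

universe u

open CategoryTheory CategoryTheory.Limits AlgebraicGeometry Opposite

namespace Groth.Agent.FieldCd

set_option autoImplicit false
set_option maxHeartbeats 1000000
set_option synthInstance.maxHeartbeats 400000
set_option backward.isDefEq.respectTransparency false
set_option backward.isDefEq.respectTransparency.types false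
set_option linter.style.haveILetI false

/-- the beginning of an injective resolution of the multiplicative group -/
structure Res2 (k : Type u) [Field k] where
  I₀ : EtCoh.Ab (Spec (CommRingCat.of k))
  Q₀ : EtCoh.Ab (Spec (CommRingCat.of k))
  I₁ : EtCoh.Ab (Spec (CommRingCat.of k))
  Q₁ : EtCoh.Ab (Spec (CommRingCat.of k))
  inj₀ : Injective I₀
  inj₁ : Injective I₁
  i : EtCoh.Gm (Spec (CommRingCat.of k)) ⟶ I₀
  q : I₀ ⟶ Q₀
  j : Q₀ ⟶ I₁
  r : I₁ ⟶ Q₁
  w₀ : i ≫ q = 0
  w₁ : j ≫ r = 0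
  se₀ : (ShortComplex.mk i q w₀).ShortExact
  se₁ : (ShortComplex.mk j r w₁).ShortExact

theorem exists_res2 (k : Type u) [Field k] : Nonempty (Res2 k) := by
  let G := EtCoh.Gm (Spec (CommRingCat.of k))
  let Q₀ := cokernel (Injective.ι G)
  exact ⟨{
    I₀ := Injective.under G, Q₀ := Q₀, I₁ := Injective.under Q₀, Q₁ := cokernel (Injective.ι Q₀)
    inj₀ := inferInstance, inj₁ := inferInstance
    i := Injective.ι G, q := cokernel.π _, j := Injective.ι Q₀, r := cokernel.π _
    w₀ := cokernel.condition _, w₁ := cokernel.condition _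
    se₀ := { exact := ShortComplex.exact_of_g_is_cokernel _ (cokernelIsCokernel _) }
    se₁ := { exact := ShortComplex.exact_of_g_is_cokernel _ (cokernelIsCokernel _) } }⟩

variable {k : Type u} [Field k] (R : Res2 k)

section

variable {L : Type u} [Field L] [Algebra k L] [FiniteDimensional k L] [Algebra.IsSeparable k L]

/-- the composite of `i` and `gm` -/
noncomputable def Res2.inc (u : Lˣ) : Sec R.I₀ L := R.i.hom.app (op (pt k L)) (gm u)

theorem Res2.q_inc (u : Lˣ) : R.q.hom.app (op (pt k L)) (R.inc u) = 0 :=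
  ConcreteCategory.congr_hom (congrArg (fun a : EtCoh.Gm _ ⟶ R.Q₀ => a.hom.app (op (pt k L))) R.w₀) (gm u)

theorem Res2.r_j (t : Sec R.Q₀ L) : R.r.hom.app (op (pt k L)) (R.j.hom.app (op (pt k L)) t) = 0 :=
  ConcreteCategory.congr_hom (congrArg (fun a : R.Q₀ ⟶ R.Q₁ => a.hom.app (op (pt k L))) R.w₁) t

theorem Res2.inc_injective : Function.Injective (R.inc (L := L)) := fun a b h => by
  haveI : Mono R.i := R.se₀.mono_f
  exact gm_bijective.1 (sec_injective R.i h)

theorem Res2.j_injective : Function.Injective (R.j.hom.app (op (pt k L))) :=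
  haveI : Mono R.j := R.se₁.mono_f
  sec_injective R.j

theorem Res2.exists_inc (t : Sec R.I₀ L) (h : R.q.hom.app (op (pt k L)) t = 0) : ∃ u : Lˣ, R.inc u = t := by
  obtain ⟨a, ha⟩ := exists_sec_of_exact R.i R.q R.w₀ R.se₀ t h
  obtain ⟨u, rfl⟩ := gm_bijective.2 a
  exact ⟨u, ha⟩

end

variable {K L : Type u} [Field K] [Algebra k K] [FiniteDimensional k K] [Algebra.IsSeparable k K]
  [Field L] [Algebra k L] [FiniteDimensional k L] [Algebra.IsSeparable k L] [Algebra K L] [IsScalarTower k K L]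
  [IsGalois K L] [Fintype (L ≃ₐ[K] L)]

omit [IsGalois K L] in
theorem sum_act_sub {G : EtCoh.Ab (Spec (CommRingCat.of k))} (σ : L ≃ₐ[K] L) (t : Sec G L) :
    ∑ γ : L ≃ₐ[K] L, act G γ (act G σ t - t) = 0 := by
  simp only [map_sub, ← act_mul, Finset.sum_sub_distrib]
  rw [sub_eq_zero]
  exact Fintype.sum_equiv (Equiv.mulRight σ) _ _ fun γ => rfl

omit [IsGalois K L] in
theorem act_sum {G : EtCoh.Ab (Spec (CommRingCat.of k))} (δ : L ≃ₐ[K] L) (t : Sec G L) :
    act G δ (∑ γ : L ≃ₐ[K] L, act G γ t) = ∑ γ : L ≃ₐ[K] L, act G γ t := by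
  simp only [map_sum, ← act_mul]
  exact Fintype.sum_equiv (Equiv.mulLeft δ) _ _ fun γ => rfl

omit [IsGalois K L] in
theorem natural_sum {G H : EtCoh.Ab (Spec (CommRingCat.of k))} (φ : G ⟶ H) (t : Sec G L) :
    φ.hom.app (op (pt k L)) (∑ γ : L ≃ₐ[K] L, act G γ t) =
      ∑ γ : L ≃ₐ[K] L, act H γ (φ.hom.app (op (pt k L)) t) := by
  rw [map_sum]
  exact Finset.sum_congr rfl fun γ _ => act_natural φ γ t

omit [IsGalois K L] in
theorem invariant_of_generator {G : EtCoh.Ab (Spec (CommRingCat.of k))} [FiniteDimensional K L] (σ : L ≃ₐ[K] L)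
    (hσ : ∀ τ, τ ∈ Subgroup.zpowers σ) (t : Sec G L) (ht : act G σ t = t) (γ : L ≃ₐ[K] L) : act G γ t = t := by
  obtain ⟨i, rfl⟩ := (mem_powers_iff_mem_zpowers (x := σ) (y := γ)).2 (hσ γ)
  show act G (σ ^ i) t = t
  induction i with
  | zero => rw [pow_zero, act_one]
  | succ i ih => rw [pow_succ, act_mul, ht, ih]

omit [Fintype (L ≃ₐ[K] L)] in
theorem units_map_algebraMap_eq (a : Kˣ) (γ : L ≃ₐ[K] L) :
    Units.map γ.toAlgHom.toRingHom.toMonoidHom (Units.map (algebraMap K L).toMonoidHom a) =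
      Units.map (algebraMap K L).toMonoidHom a :=
  Units.ext (γ.commutes _)

theorem prod_act_eq_norm [FiniteDimensional K L] (y : Lˣ) (a : Kˣ) (h : Algebra.norm K (y : L) = a) :
    ∏ γ : L ≃ₐ[K] L, Units.map γ.toAlgHom.toRingHom.toMonoidHom y = Units.map (algebraMap K L).toMonoidHom a := by
  refine Units.ext ?_
  rw [Units.coe_prod]
  show ∏ γ : L ≃ₐ[K] L, γ (y : L) = algebraMap K L a
  rw [← h, Algebra.norm_eq_prod_automorphisms]
  exact Finset.prod_congr (by ext; simp) fun _ _ => rfl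

variable (σ : L ≃ₐ[K] L) (hσ : ∀ τ, τ ∈ Subgroup.zpowers σ)

/-- the data attached to a class split by `L` -/
structure Res2.Witness (z : Sec R.Q₁ K) (w : Sec R.I₁ L) (v : Sec R.I₀ L) (a : Kˣ) : Prop where
  lift : R.r.hom.app (op (pt k L)) w = resF R.Q₁ (incl k) z
  delta : R.j.hom.app (op (pt k L)) (R.q.hom.app (op (pt k L)) v) = act R.I₁ σ w - w
  norm : ∑ γ : L ≃ₐ[K] L, act R.I₀ γ v = R.inc (Units.map (algebraMap K L).toMonoidHom a)

include hσ in
/-- a class split by a cyclic extension with surjective norm is trivial -/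
theorem Res2.exists_lift_cyclic (hN : ∀ a : K, a ≠ 0 → ∃ y : L, Algebra.norm K y = a) (z : Sec R.Q₁ K) (w : Sec R.I₁ L)
    (hw : R.r.hom.app (op (pt k L)) w = resF R.Q₁ (incl k) z) : ∃ s : Sec R.I₁ K, R.r.hom.app (op (pt k K)) s = z := by
  haveI := R.inj₀
  haveI : FiniteDimensional K L := Module.Finite.right k K L
  obtain ⟨c, hc⟩ := exists_sec_of_exact R.j R.r R.w₁ R.se₁ (act R.I₁ σ w - w) (by
    rw [map_sub, act_natural R.r, hw, act_resF, sub_self])
  obtain ⟨v, hv⟩ := exists_lift_gm R.i R.q R.w₀ R.se₀ c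
  have hsum : R.q.hom.app (op (pt k L)) (∑ γ : L ≃ₐ[K] L, act R.I₀ γ v) = 0 := by
    refine R.j_injective ?_
    rw [natural_sum R.q, hv, natural_sum R.j, hc, sum_act_sub, map_zero]
  obtain ⟨u, hu⟩ := R.exists_inc _ hsum
  have hfix : ∀ γ : L ≃ₐ[K] L, γ (u : L) = u := fun γ => by
    have e : Units.map γ.toAlgHom.toRingHom.toMonoidHom u = u := R.inc_injective (by
      show R.i.hom.app (op (pt k L)) (gm _) = R.inc u
      rw [← act_gm, act_natural R.i]
      show act R.I₀ γ (R.inc u) = R.inc u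
      rw [hu, act_sum])
    exact congrArg Units.val e
  obtain ⟨a, ha⟩ := IntermediateField.mem_bot.1 ((IsGalois.mem_bot_iff_fixed (u : L)).2 hfix)
  have ha0 : a ≠ 0 := fun h => u.ne_zero (by rw [← ha, h, map_zero])
  obtain ⟨y, hy⟩ := hN a ha0
  have hy0 : y ≠ 0 := fun h => ha0 (by rw [← hy, h, Algebra.norm_zero])
  let v' : Sec R.I₀ L := v - R.inc (Units.mk0 y hy0)
  have hv' : ∑ γ : L ≃ₐ[K] L, act R.I₀ γ v' = 0 := by
    simp only [v', map_sub, Finset.sum_sub_distrib]
    rw [sub_eq_zero, ← hu]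
    show R.i.hom.app (op (pt k L)) (gm u) = ∑ γ : L ≃ₐ[K] L, act R.I₀ γ (R.i.hom.app (op (pt k L)) (gm _))
    rw [← natural_sum R.i, Finset.sum_congr rfl (fun γ _ => act_gm γ _), ← gm_prod,
      prod_act_eq_norm (Units.mk0 y hy0) (Units.mk0 a ha0) hy]
    exact congrArg (fun t => R.i.hom.app (op (pt k L)) (gm t)) (Units.ext ha.symm)
  obtain ⟨cc, hcσ, hcoc⟩ := exists_cocycle_of_cyclic σ hσ v' hv'
  obtain ⟨b, hb⟩ := exists_cobound R.I₀ cc hcoc
  let w' := w - R.j.hom.app (op (pt k L)) (R.q.hom.app (op (pt k L)) b)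
  have hw' : act R.I₁ σ w' = w' := by
    refine sub_eq_zero.1 ?_
    have e : act R.I₁ σ w' - w' = (act R.I₁ σ w - w) -
        R.j.hom.app (op (pt k L)) (R.q.hom.app (op (pt k L)) (act R.I₀ σ b - b)) := by
      simp only [w', map_sub, ← act_natural]
      abel
    rw [e, hb, hcσ, ← hc, ← hv, ← map_sub, ← map_sub, sub_sub_cancel, R.q_inc, map_zero]
  obtain ⟨s, hs⟩ := exists_descend (K := K) R.I₁ w' (invariant_of_generator σ hσ w' hw')
  refine ⟨s, resF_incl_injective (K := K) (L := L) R.Q₁ ?_⟩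
  rw [← resF_natural R.r, hs]
  show R.r.hom.app (op (pt k L)) (w - _) = _
  rw [map_sub, hw, R.r_j, sub_zero]

include hσ in
/-- every element of the base gives a class split by `L` -/
theorem Res2.exists_witness (a : Kˣ) : ∃ z w v, R.Witness σ z w v a := by
  haveI := R.inj₀
  haveI := R.inj₁
  haveI : FiniteDimensional K L := Module.Finite.right k K L
  obtain ⟨v, hv⟩ := exists_norm R.I₀ (R.inc (Units.map (algebraMap K L).toMonoidHom a)) fun γ => by
    show act (K := K) R.I₀ γ (R.i.hom.app (op (pt k L)) (gm _)) = _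
    rw [← act_natural R.i, act_gm, units_map_algebraMap_eq a γ]
    rfl
  let c := R.j.hom.app (op (pt k L)) (R.q.hom.app (op (pt k L)) v)
  have hc : ∑ γ : L ≃ₐ[K] L, act R.I₁ γ c = 0 := by
    rw [← natural_sum R.j, ← natural_sum R.q, hv, R.q_inc, map_zero]
  obtain ⟨cc, hcσ, hcoc⟩ := exists_cocycle_of_cyclic σ hσ c hc
  obtain ⟨w, hw⟩ := exists_cobound R.I₁ cc hcoc
  obtain ⟨z, hz⟩ := exists_descend (K := K) R.Q₁ (R.r.hom.app (op (pt k L)) w)
    (invariant_of_generator σ hσ _ (by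
      rw [← act_natural, show act R.I₁ σ w = w + c from (sub_eq_iff_eq_add'.1 ((hw σ).trans hcσ)),
        map_add, R.r_j, add_zero]))
  exact ⟨z, w, v, hz.symm, ((hw σ).trans hcσ).symm, hv⟩

/-- if the class of `a` is trivial then `a` is a norm -/
theorem Res2.exists_norm_of_lift {z : Sec R.Q₁ K} {w : Sec R.I₁ L} {v : Sec R.I₀ L} {a : Kˣ}
    (h : R.Witness σ z w v a) (s : Sec R.I₁ K) (hs : R.r.hom.app (op (pt k K)) s = z) :
    ∃ y : L, Algebra.norm K y = a := by
  haveI : FiniteDimensional K L := Module.Finite.right k K L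
  obtain ⟨e, he⟩ := exists_sec_of_exact R.j R.r R.w₁ R.se₁ (w - resF R.I₁ (incl k) s) (by
    rw [map_sub, resF_natural R.r, hs, h.lift, sub_self])
  obtain ⟨e', he'⟩ := exists_lift_gm R.i R.q R.w₀ R.se₀ e
  obtain ⟨y, hy⟩ := R.exists_inc (v - (act R.I₀ σ e' - e')) (R.j_injective (by
    rw [map_sub, map_sub, map_sub, h.delta, act_natural R.q, he', map_sub, act_natural R.j, he, map_sub, act_resF,
      map_zero]
    abel))
  refine ⟨y, ?_⟩
  have h1 : ∑ γ : L ≃ₐ[K] L, act R.I₀ γ (R.inc y) = R.inc (Units.map (algebraMap K L).toMonoidHom a) := by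
    rw [hy, ← h.norm]
    simp only [map_sub, Finset.sum_sub_distrib]
    rw [← Finset.sum_sub_distrib, ← Finset.sum_sub_distrib]
    rw [Finset.sum_congr rfl (fun γ _ => (by rw [map_sub] :
      act R.I₀ γ v - (act R.I₀ γ (act R.I₀ σ e') - act R.I₀ γ e') = act R.I₀ γ v - act R.I₀ γ (act R.I₀ σ e' - e')))]
    rw [Finset.sum_sub_distrib, sum_act_sub, sub_zero]
  have h2 : R.inc (∏ γ : L ≃ₐ[K] L, Units.map γ.toAlgHom.toRingHom.toMonoidHom y) =
      R.inc (Units.map (algebraMap K L).toMonoidHom a) := by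
    rw [← h1]
    show R.i.hom.app (op (pt k L)) (gm _) = ∑ γ : L ≃ₐ[K] L, act R.I₀ γ (R.i.hom.app (op (pt k L)) (gm y))
    rw [← natural_sum R.i, gm_prod, Finset.sum_congr rfl (fun γ _ => (act_gm γ y).symm)]
  have h3 := congrArg Units.val (R.inc_injective h2)
  rw [Units.coe_prod] at h3
  refine (algebraMap K L).injective ?_
  rw [Algebra.norm_eq_prod_automorphisms]
  refine Eq.trans (Finset.prod_congr (by ext; simp) fun _ _ => rfl) h3

end Groth.Agent.FieldCd
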