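import Groth.Agent.FieldCd.Cochain
import Groth.Agent.GmPic.Basic
import Mathlib.RepresentationTheory.Homological.GroupCohomology.Hilbert90

/-! sections of the multiplicative group over extensions of a field; Hilbert 90 -/

universe u

open CategoryTheory CategoryTheory.Limits AlgebraicGeometry Opposite

namespace Groth.Agent.FieldCd

set_option autoImplicit false
set_option maxHeartbeats 1000000
set_option synthInstance.maxHeartbeats 400000
set_option backward.isDefEq.respectTransparency false
set_option backward.isDefEq.respectTransparency.types false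
set_option linter.style.haveILetI false

variable {k : Type u} [Field k]

section

variable {L M : Type u} [Field L] [Algebra k L] [FiniteDimensional k L] [Algebra.IsSeparable k L]
  [Field M] [Algebra k M] [FiniteDimensional k M] [Algebra.IsSeparable k M]

/-- a unit of `L` as a section of the multiplicative group -/
noncomputable def gm (u : Lˣ) : Sec (EtCoh.Gm (Spec (CommRingCat.of k))) L :=
  GmPic.ofUnit (Z := pt k L) (Units.map (Scheme.ΓSpecIso (CommRingCat.of L)).inv.hom.toMonoidHom u)

theorem gm_mul (u v : Lˣ) : gm (k := k) (u * v) = gm u + gm v := by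
  unfold gm
  rw [map_mul]
  exact GmPic.ofUnit_mul _ _

theorem gm_one : gm (k := k) (1 : Lˣ) = 0 := by
  unfold gm
  rw [map_one]
  exact GmPic.ofUnit_one

/-- `gm` as a homomorphism -/
noncomputable def gmHom : Additive Lˣ →+ Sec (EtCoh.Gm (Spec (CommRingCat.of k))) L where
  toFun u := gm u.toMul
  map_zero' := gm_one
  map_add' u v := gm_mul u.toMul v.toMul

theorem gm_div (u v : Lˣ) : gm (k := k) (u / v) = gm u - gm v :=
  map_sub (gmHom (k := k) (L := L)) (Additive.ofMul u) (Additive.ofMul v)

theorem gm_prod {ι : Type*} (s : Finset ι) (u : ι → Lˣ) : gm (k := k) (∏ i ∈ s, u i) = ∑ i ∈ s, gm (u i) :=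
  map_sum (gmHom (k := k) (L := L)) (fun i => Additive.ofMul (u i)) s

theorem gm_bijective : Function.Bijective (gm (k := k) (L := L)) := by
  let e : Lˣ ≃* (Γ((pt k L).left, ⊤))ˣ :=
    Units.mapEquiv (Scheme.ΓSpecIso (CommRingCat.of L)).symm.commRingCatIsoToRingEquiv.toMulEquiv
  have h : gm (k := k) (L := L) = GmPic.ofUnit (Z := pt k L) ∘ e := rfl
  rw [h]
  exact (Function.Bijective.comp ⟨GmPic.ofUnit_injective, fun s => ⟨GmPic.toUnit s, GmPic.ofUnit_toUnit s⟩⟩
    e.bijective)

theorem resF_gm (f : L →ₐ[k] M) (u : Lˣ) :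
    resF (EtCoh.Gm (Spec (CommRingCat.of k))) f (gm u) = gm (Units.map f.toRingHom.toMonoidHom u) := by
  refine (GmPic.res_ofUnit (ptHom f) _).trans (congrArg GmPic.ofUnit (Units.ext ?_))
  exact (ConcreteCategory.congr_hom (Scheme.ΓSpecIso_inv_naturality (CommRingCat.ofHom f.toRingHom)) (u : L)).symm

end

variable {K L : Type u} [Field K] [Algebra k K] [FiniteDimensional k K] [Algebra.IsSeparable k K]
  [Field L] [Algebra k L] [FiniteDimensional k L] [Algebra.IsSeparable k L] [Algebra K L] [IsScalarTower k K L]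

theorem act_gm (γ : L ≃ₐ[K] L) (u : Lˣ) :
    act (EtCoh.Gm (Spec (CommRingCat.of k))) γ (gm u) = gm (Units.map γ.toAlgHom.toRingHom.toMonoidHom u) :=
  resF_gm _ u

/-- Hilbert 90: sections of the quotient of an extension by the multiplicative group lift -/
theorem exists_lift_gm {B C : EtCoh.Ab (Spec (CommRingCat.of k))}
    (f : EtCoh.Gm (Spec (CommRingCat.of k)) ⟶ B) (g : B ⟶ C) (w : f ≫ g = 0)
    (h : (ShortComplex.mk f g w).ShortExact) (t : Sec C L) : ∃ s : Sec B L, g.hom.app (op (pt k L)) s = t := by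
  haveI : Epi g := h.epi_g
  haveI : Mono f := h.mono_f
  obtain ⟨N, _, _, _, _, ι, s, hs⟩ := exists_galois_lift g t
  letI : Algebra L N := ι.toRingHom.toAlgebra
  haveI : IsScalarTower k L N := IsScalarTower.of_algebraMap_eq fun c => (ι.commutes c).symm
  haveI : IsGalois L N := IsGalois.tower_top_of_isGalois k L N
  haveI : FiniteDimensional L N := Module.Finite.right k L N
  have hι : incl k (K := L) (L := N) = ι := AlgHom.ext fun _ => rfl
  have hker : ∀ γ : N ≃ₐ[L] N, ∃ u : Nˣ, f.hom.app (op (pt k N)) (gm u) = act B γ s - s := fun γ => by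
    obtain ⟨a, ha⟩ := exists_sec_of_exact f g w h (act B γ s - s) (by
      rw [map_sub, act_natural g, hs, ← hι, act_resF, sub_self])
    obtain ⟨u, rfl⟩ := gm_bijective.2 a
    exact ⟨u, ha⟩
  choose c hc using hker
  have hcoc : groupCohomology.IsMulCocycle₁ c := fun γ δ => by
    refine gm_bijective.1 (sec_injective f ?_)
    rw [gm_mul, map_add, hc, hc]
    show _ = f.hom.app (op (pt k N)) (gm (Units.map γ.toAlgHom.toRingHom.toMonoidHom (c δ))) + _
    rw [← act_gm, act_natural f, hc, map_sub, act_mul]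
    abel
  obtain ⟨β, hβ⟩ := groupCohomology.isMulCoboundary₁_of_isMulCocycle₁_of_aut_to_units c hcoc
  obtain ⟨y, hy⟩ := exists_descend (K := L) B (s - f.hom.app (op (pt k N)) (gm β)) fun γ => by
    rw [map_sub, ← act_natural f, act_gm]
    have h1 : f.hom.app (op (pt k N)) (gm (Units.map γ.toAlgHom.toRingHom.toMonoidHom β)) =
        (act B γ s - s) + f.hom.app (op (pt k N)) (gm β) := by
      rw [← hc, ← map_add, ← gm_mul, ← hβ γ, div_mul_cancel]
      rfl
    rw [h1]
    abel
  refine ⟨y, resF_incl_injective (K := L) (L := N) C ?_⟩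
  rw [← resF_natural g, hy, map_sub, hs, hι]
  refine sub_eq_self.2 ?_
  exact ConcreteCategory.congr_hom (congrArg (fun q : EtCoh.Gm _ ⟶ C => q.hom.app (op (pt k N))) w) (gm β)

end Groth.Agent.FieldCd
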